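import Mathlib
import Cfsg.Agent.Lib.Elem69.Basic
import Cfsg.Agent.Lib.Transfer.Criteria
import Cfsg.Agent.Lib.Coprime.Sylow
import Cfsg.Agent.Lib.FusionMod.Basic

/-!
A Sylow `2`-subgroup `P` of class at most two whose normaliser induces only a `2`-group on it:
structure of a largest subgroup normal in `P` whose normaliser induces an automorphism of odd order.
-/

set_option autoImplicit false

open Subgroup

namespace Cfsg.Agent.Lib.MaxInvNilpotent

variable {G : Type*} [Group G]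

theorem eq_one_of_two_pow {x : G} (h : (orderOf x).Coprime 2) {k : ℕ} (hk : x ^ (2 ^ k) = 1) :
    x = 1 :=
  orderOf_eq_one_iff.mp
    (Nat.eq_one_of_dvd_coprimes (h.pow_right k) dvd_rfl (orderOf_dvd_of_pow_eq_one hk))

/-- A conjugate shifted by a fixed `2`-element is not shifted, for conjugation by an element of odd
order. -/
theorem eq_one_of_shift {g y c : G} (hg : (orderOf g).Coprime 2) (hgy : g * y * g⁻¹ = c * y)
    (hgc : g * c * g⁻¹ = c) {k : ℕ} (hk : c ^ (2 ^ k) = 1) : c = 1 := by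
  have h : ∀ n : ℕ, g ^ n * y * (g ^ n)⁻¹ = c ^ n * y := by
    intro n
    induction n with
    | zero => simp
    | succ n ih =>
      have h1 : g * c ^ n * g⁻¹ = c ^ n := by rw [← conj_pow, hgc]
      have h2 : g ^ (n + 1) * y * (g ^ (n + 1))⁻¹ = g * (g ^ n * y * (g ^ n)⁻¹) * g⁻¹ := by group
      rw [h2, ih, show g * (c ^ n * y) * g⁻¹ = (g * c ^ n * g⁻¹) * (g * y * g⁻¹) by group, h1, hgy,
        pow_succ]
      group
  have h3 := h (orderOf g)
  rw [pow_orderOf_eq_one, one_mul, inv_one, mul_one, right_eq_mul] at h3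
  exact orderOf_eq_one_iff.mp (Nat.eq_one_of_dvd_coprimes (hg.pow_right k)
    (orderOf_dvd_of_pow_eq_one h3) (orderOf_dvd_of_pow_eq_one hk))

theorem le_normalizer_sup {X U W : Subgroup G} (hU : X ≤ normalizer (U : Set G))
    (hW : X ≤ normalizer (W : Set G)) : X ≤ normalizer ((U ⊔ W : Subgroup G) : Set G) := by
  intro x hx
  rw [mem_normalizer_iff_map_conj_eq, Subgroup.map_sup,
    mem_normalizer_iff_map_conj_eq.mp (hU hx), mem_normalizer_iff_map_conj_eq.mp (hW hx)]

theorem mem_normalizer_of_conj_le [Finite G] {D : Subgroup G} {x : G}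
    (h : ∀ y ∈ D, x * y * x⁻¹ ∈ D) : x ∈ normalizer (D : Set G) := by
  rw [mem_normalizer_iff_map_conj_eq]
  refine eq_of_le_of_card_ge ?_ (card_map_of_injective (MulEquiv.injective _)).ge
  rintro _ ⟨y, hy, rfl⟩
  exact h y hy

/-- Frattini with an element of odd order. -/
theorem exists_odd_lift [Finite G] (P : Sylow 2 G) {X D : Subgroup G} (hPX : (P : Subgroup G) ≤ X)
    (hDX : D ≤ X) (hD : X ≤ normalizer (D : Set G)) {g : G} (hg : g ∈ X)
    (hgo : (orderOf g).Coprime 2) :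
    ∃ u ∈ X, (orderOf u).Coprime 2 ∧
      u ∈ normalizer (((P : Subgroup G) ⊓ D : Subgroup G) : Set G) ∧ g * u⁻¹ ∈ D := by
  have : Fact (Nat.Prime 2) := ⟨Nat.prime_two⟩
  have : (D.subgroupOf X).Normal := normal_subgroupOf_of_le_normalizer hD
  have hUe : (((P.subtype hPX : Sylow 2 X) : Subgroup X) ⊓ D.subgroupOf X).map X.subtype =
      (P : Subgroup G) ⊓ D := by
    rw [Sylow.coe_subtype, Subgroup.map_inf _ _ _ X.subtype_injective, subgroupOf_map_subtype,
      subgroupOf_map_subtype, inf_eq_left.mpr hPX, inf_eq_left.mpr hDX]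
  have hfrat := FusionMod.frattini_inf (P.subtype hPX) (D.subgroupOf X)
  obtain ⟨a, ha, b, hb, hab⟩ := Subgroup.mem_sup_of_normal_right.mp
    (hfrat.symm ▸ Subgroup.mem_top (⟨g, hg⟩ : X))
  have haN : (a : G) ∈ normalizer (((P : Subgroup G) ⊓ D : Subgroup G) : Set G) := by
    rw [← hUe]
    exact le_normalizer_map X.subtype ⟨a, ha, rfl⟩
  obtain ⟨u, v, huv, -, hu, ⟨k, hv⟩, huz, hvz⟩ := Elem69.exists_prime_split (a : G) Nat.prime_two
  refine ⟨u, zpowers_le.mpr a.2 huz, hu, zpowers_le.mpr haN huz, ?_⟩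
  let π := QuotientGroup.mk' (D.subgroupOf X)
  let v' : X := ⟨v, zpowers_le.mpr a.2 hvz⟩
  let u' : X := ⟨u, zpowers_le.mpr a.2 huz⟩
  have hga : π ⟨g, hg⟩ = π a := by
    rw [← hab, map_mul, show π b = 1 from (QuotientGroup.eq_one_iff b).mpr hb, mul_one]
  have hva : a = u' * v' := Subtype.ext huv.symm
  obtain ⟨i, hi⟩ := mem_zpowers_iff.mp hvz
  have hvi : v' = a ^ i := Subtype.ext (by simp [v', hi])
  have hv' : π v' = 1 := by
    refine eq_one_of_two_pow (k := k) ?_ ?_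
    · refine hgo.coprime_dvd_left ?_
      rw [orderOf_dvd_iff_pow_eq_one, hvi, map_zpow, ← zpow_natCast, zpow_comm, zpow_natCast, ← hga,
        ← map_pow,
        show (⟨g, hg⟩ : X) ^ orderOf g = 1 from Subtype.ext (by simp [pow_orderOf_eq_one]),
        map_one, one_zpow]
    · rw [← map_pow, show v' ^ (2 ^ k) = 1 from
        Subtype.ext (by simp [v', ← hv, pow_orderOf_eq_one]), map_one]
  have h1 : π (⟨g, hg⟩ * u'⁻¹) = 1 := by
    rw [map_mul, map_inv, hga, hva, map_mul, hv', mul_one, mul_inv_cancel]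
  exact mem_subgroupOf.mp ((QuotientGroup.eq_one_iff _).mp h1)

/-- The centre of `Q`, inside `G`. -/
abbrev zq (Q : Subgroup G) : Subgroup G := Q ⊓ centralizer (Q : Set G)

theorem conj_mem_normalizer {Q : Subgroup G} {x y : G} (hx : x ∈ normalizer (Q : Set G))
    (hy : y ∈ Q) : x * y * x⁻¹ ∈ Q :=
  (mem_normalizer_iff.mp hx y).mp hy

theorem conj_mem_normalizer' {Q : Subgroup G} {x y : G} (hx : x ∈ normalizer (Q : Set G))
    (hy : y ∈ Q) : x⁻¹ * y * x ∈ Q := by
  simpa using conj_mem_normalizer (inv_mem hx) hy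

theorem conj_mem_centralizer {Q : Subgroup G} {x y : G} (hx : x ∈ normalizer (Q : Set G))
    (hy : y ∈ centralizer (Q : Set G)) : x * y * x⁻¹ ∈ centralizer (Q : Set G) := by
  rw [mem_centralizer_iff]
  intro z hz
  have h := congrArg (fun w => x * w * x⁻¹)
    (mem_centralizer_iff.mp hy _ (conj_mem_normalizer' hx hz))
  simpa [mul_assoc] using h

theorem conj_mem_zq {Q : Subgroup G} {x y : G} (hx : x ∈ normalizer (Q : Set G))
    (hy : y ∈ zq Q) : x * y * x⁻¹ ∈ zq Q :=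
  ⟨conj_mem_normalizer hx hy.1, conj_mem_centralizer hx hy.2⟩

theorem conj_mem_zq' {Q : Subgroup G} {x y : G} (hx : x ∈ normalizer (Q : Set G))
    (hy : y ∈ zq Q) : x⁻¹ * y * x ∈ zq Q := by
  simpa using conj_mem_zq (inv_mem hx) hy

/-- The elements of the normaliser of `Q` acting trivially on `Q` modulo its centre. -/
def trivQuot (Q : Subgroup G) : Subgroup G where
  carrier := {x | x ∈ normalizer (Q : Set G) ∧ ∀ y ∈ Q, x * y * x⁻¹ * y⁻¹ ∈ zq Q}
  one_mem' := ⟨one_mem _, fun y _ => by simp [zq]⟩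
  mul_mem' := by
    rintro a b ⟨ha, ha'⟩ ⟨hb, hb'⟩
    refine ⟨mul_mem ha hb, fun y hy => ?_⟩
    have h := mul_mem (conj_mem_zq ha (hb' y hy)) (ha' y hy)
    rwa [show a * (b * y * b⁻¹ * y⁻¹) * a⁻¹ * (a * y * a⁻¹ * y⁻¹) =
      a * b * y * (a * b)⁻¹ * y⁻¹ by group] at h
  inv_mem' := by
    rintro a ⟨ha, ha'⟩
    refine ⟨inv_mem ha, fun y hy => ?_⟩
    have h := inv_mem (ha' _ (conj_mem_normalizer' ha hy))
    rwa [show (a * (a⁻¹ * y * a) * a⁻¹ * (a⁻¹ * y * a)⁻¹)⁻¹ = a⁻¹ * y * a⁻¹⁻¹ * y⁻¹ by group] at h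

theorem conj_mem_trivQuot {Q : Subgroup G} {l a : G} (hl : l ∈ normalizer (Q : Set G))
    (ha : a ∈ trivQuot Q) : l * a * l⁻¹ ∈ trivQuot Q := by
  obtain ⟨ha, ha'⟩ := ha
  refine ⟨mul_mem (mul_mem hl ha) (inv_mem hl), fun y hy => ?_⟩
  have h := conj_mem_zq hl (ha' _ (conj_mem_normalizer' hl hy))
  rwa [show l * (a * (l⁻¹ * y * l) * a⁻¹ * (l⁻¹ * y * l)⁻¹) * l⁻¹ =
      l * a * l⁻¹ * y * (l * a * l⁻¹)⁻¹ * y⁻¹ by group] at h

/-- `Q` is normal in `P` and some element of odd order normalises but does not centralise it. -/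
def Bad (P : Sylow 2 G) (Q : Subgroup G) : Prop :=
  Q ≤ (P : Subgroup G) ∧ (P : Subgroup G) ≤ normalizer (Q : Set G) ∧
    ∃ g ∈ normalizer (Q : Set G), (orderOf g).Coprime 2 ∧ g ∉ centralizer (Q : Set G)

/-- A bad subgroup of largest order. -/
def MaxBad (P : Sylow 2 G) (Q : Subgroup G) : Prop :=
  Bad P Q ∧ ∀ R, Bad P R → Nat.card R ≤ Nat.card Q

/-- The hypotheses on the Sylow subgroup. -/
structure Ctx (P : Sylow 2 G) : Prop where
  hcl : ∀ a ∈ (P : Subgroup G), ∀ b ∈ (P : Subgroup G), ∀ c ∈ (P : Subgroup G), Commute (a * b * a⁻¹ * b⁻¹) c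
  hN : ∀ g ∈ normalizer ((P : Subgroup G) : Set G), (orderOf g).Coprime 2 →
    g ∈ centralizer ((P : Subgroup G) : Set G)

/-- What is known about a largest bad subgroup `Q` and an element `g` witnessing it. -/
structure Good (P : Sylow 2 G) (Q : Subgroup G) (g : G) : Prop where
  le : Q ≤ (P : Subgroup G)
  norm : (P : Subgroup G) ≤ normalizer (Q : Set G)
  mem : g ∈ normalizer (Q : Set G)
  odd : (orderOf g).Coprime 2
  ncen : g ∉ centralizer (Q : Set G)
  cen : ∀ x ∈ (P : Subgroup G), x ∈ centralizer (Q : Set G) → x ∈ Q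
  two : ∀ s ∈ (P : Subgroup G), ∀ t ∈ (P : Subgroup G), s ∉ Q → t ∉ Q → s * t ∈ Q
  comm : ∀ y ∈ Q, g * y * g⁻¹ * y⁻¹ ∈ zq Q
  inv : ∀ t ∈ (P : Subgroup G), t ∉ Q → ∀ v ∈ zq Q, t * g * t⁻¹ * v * (t * g * t⁻¹)⁻¹ = g⁻¹ * v * g

theorem good_of_maxBad [Finite G] {P : Sylow 2 G} (C : Ctx P) {Q : Subgroup G} (hQ : MaxBad P Q)
    {g : G} (hg : g ∈ normalizer (Q : Set G)) (hgo : (orderOf g).Coprime 2)
    (hgc : g ∉ centralizer (Q : Set G)) : Good P Q g := by
  have : Fact (Nat.Prime 2) := ⟨Nat.prime_two⟩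
  obtain ⟨⟨hQP, hPQ, -⟩, hmax⟩ := hQ
  set L := normalizer (Q : Set G) with hL
  set Z := centralizer (Q : Set G) with hZ
  have hZL : Z ≤ L := centralizer_le_normalizer _
  have hLZ : L ≤ normalizer (Z : Set G) :=
    Coprime.le_normalizer_of_conj_mem fun a ha x hx => conj_mem_centralizer ha hx
  have hnb : ∀ R : Subgroup G, R ≤ (P : Subgroup G) → (P : Subgroup G) ≤ normalizer (R : Set G) →
      Q < R → ∀ u ∈ normalizer (R : Set G), (orderOf u).Coprime 2 →
      u ∈ centralizer (R : Set G) := by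
    intro R hR hR' hlt u hu huo
    by_contra hne
    have h1 := hmax R ⟨hR, hR', u, hu, huo, hne⟩
    have h2 : Nat.card Q < Nat.card R := Set.Finite.card_lt_card (Set.toFinite _) hlt
    omega
  -- the centraliser of `Q` in `P`
  have hcen : ∀ x ∈ (P : Subgroup G), x ∈ Z → x ∈ Q := by
    intro x hxP hxZ
    by_contra hxQ
    set R := Q ⊔ ((P : Subgroup G) ⊓ Z) with hR
    have hlt : Q < R := lt_of_le_of_ne le_sup_left fun h =>
      hxQ (h ▸ mem_sup_right ⟨hxP, hxZ⟩)
    have hPR : (P : Subgroup G) ≤ normalizer (R : Set G) := le_normalizer_sup hPQ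
      (Coprime.le_normalizer_of_conj_mem fun a ha x hx =>
        ⟨(P : Subgroup G).mul_mem ((P : Subgroup G).mul_mem ha hx.1) ((P : Subgroup G).inv_mem ha),
          conj_mem_centralizer (hPQ ha) hx.2⟩)
    obtain ⟨u, huL, huo, huN, hgu⟩ := exists_odd_lift P hPQ hZL hLZ hg hgo
    have huR : u ∈ normalizer (R : Set G) := by
      rw [mem_normalizer_iff_map_conj_eq, hR, Subgroup.map_sup,
        mem_normalizer_iff_map_conj_eq.mp huL, mem_normalizer_iff_map_conj_eq.mp huN]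
    have huZ : u ∈ Z := centralizer_le (SetLike.coe_subset_coe.mpr hlt.le)
      (hnb R (sup_le hQP inf_le_left) hPR hlt u huR huo)
    exact hgc (by simpa using mul_mem hgu huZ)
  -- commutators of `P`
  have hder : ∀ a ∈ (P : Subgroup G), ∀ b ∈ (P : Subgroup G), a * b * a⁻¹ * b⁻¹ ∈ zq Q := by
    intro a ha b hb
    have h : a * b * a⁻¹ * b⁻¹ ∈ Z :=
      mem_centralizer_iff.mpr fun c hc => (C.hcl a ha b hb c (hQP hc)).eq.symm
    exact ⟨hcen _ (mul_mem (mul_mem (mul_mem ha hb) (inv_mem ha)) (inv_mem hb)) h, h⟩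
  set N0 := Q ⊔ Z with hN0
  have hN0L : N0 ≤ L := sup_le le_normalizer hZL
  have hLN0 : L ≤ normalizer (N0 : Set G) := le_normalizer_sup le_rfl hLZ
  have hmemN0 : ∀ x ∈ N0, ∃ q ∈ Q, ∃ c ∈ Z, x = q * c := by
    intro x hx
    have h : x ∈ ((Q ⊔ Z : Subgroup G) : Set G) := hx
    rw [Subgroup.coe_mul_of_left_le_normalizer_right Q Z (le_normalizer.trans hLZ)] at h
    obtain ⟨q, hq, c, hc, rfl⟩ := h
    exact ⟨q, hq, c, hc, rfl⟩
  have hPN0 : ∀ x ∈ (P : Subgroup G), x ∈ N0 → x ∈ Q := by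
    intro x hxP hx
    obtain ⟨q, hq, c, hc, rfl⟩ := hmemN0 x hx
    refine mul_mem hq (hcen c ?_ hc)
    simpa using mul_mem (inv_mem (hQP hq)) hxP
  have hN0odd : ∀ x ∈ N0, (orderOf x).Coprime 2 → x ∈ Z := by
    intro x hx hxo
    obtain ⟨q, hq, c, hc, rfl⟩ := hmemN0 x hx
    have h : ∀ m : ℕ, (q ^ m)⁻¹ * (q * c) ^ m ∈ Z := by
      intro m
      induction m with
      | zero => simp
      | succ m ih =>
        have h1 := mul_mem
          (conj_mem_centralizer (inv_mem (le_normalizer (pow_mem hq m))) hc) ih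
        rw [show (q ^ (m + 1))⁻¹ * (q * c) ^ (m + 1) =
          (q ^ m)⁻¹ * c * (q ^ m)⁻¹⁻¹ * ((q ^ m)⁻¹ * (q * c) ^ m) by
            rw [pow_succ' (q * c), pow_succ' q]
            generalize (q * c) ^ m = w, q ^ m = r
            group]
        exact h1
    obtain ⟨k, hk⟩ := P.2 ⟨q, hQP hq⟩
    have hk' : q ^ (2 ^ k) = 1 := congrArg Subtype.val hk
    have h2 := h (2 ^ k)
    rw [hk', inv_one, one_mul] at h2
    have h3 : q * c ∈ zpowers ((q * c) ^ (2 ^ k)) :=
      mem_zpowers_pow_iff.mpr (hxo.pow_right k).symm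
    exact zpowers_le.mpr h2 h3
  -- the quotient by `Q * C(Q)`
  have : (N0.subgroupOf L).Normal := normal_subgroupOf_of_le_normalizer hLN0
  let π := QuotientGroup.mk' (N0.subgroupOf L)
  have hπsurj : Function.Surjective π := QuotientGroup.mk'_surjective _
  have hπeq : ∀ x y : L, π x = π y ↔ (x : G)⁻¹ * y ∈ N0 := fun x y => by
    simp only [π, QuotientGroup.mk'_apply, QuotientGroup.eq, mem_subgroupOf]
    rfl
  let PL : Sylow 2 L := P.subtype hPQ
  let Pb : Sylow 2 (L ⧸ N0.subgroupOf L) := PL.mapSurjective hπsurj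
  have hPb : ∀ w, w ∈ (Pb : Subgroup (L ⧸ N0.subgroupOf L)) ↔
      ∃ s : L, (s : G) ∈ (P : Subgroup G) ∧ π s = w := by
    intro w
    rw [Sylow.coe_mapSurjective, Subgroup.mem_map]
    simp only [PL, Sylow.coe_subtype, mem_subgroupOf]
  have hcomm : ∀ a ∈ (Pb : Subgroup (L ⧸ N0.subgroupOf L)), ∀ b ∈
      (Pb : Subgroup (L ⧸ N0.subgroupOf L)), a * b = b * a := by
    intro a' ha' b' hb'
    obtain ⟨a, ha, rfl⟩ := (hPb a').mp ha'
    obtain ⟨b, hb, rfl⟩ := (hPb b').mp hb'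
    rw [← map_mul, ← map_mul, hπeq]
    have h := (hder _ (inv_mem hb) _ (inv_mem ha)).1
    refine mem_sup_left ?_
    simpa [mul_assoc] using h
  have hlift : ∀ k : L ⧸ N0.subgroupOf L, (orderOf k).Coprime 2 →
      ∃ u : L, π u = k ∧ (orderOf (u : G)).Coprime 2 := by
    intro k hk
    obtain ⟨x, rfl⟩ := hπsurj k
    obtain ⟨u, v, huv, -, huo, ⟨j, hvj⟩, -, hvz⟩ := Elem69.exists_prime_split x Nat.prime_two
    refine ⟨u, ?_, by rwa [Subgroup.orderOf_coe]⟩
    obtain ⟨i, hi⟩ := mem_zpowers_iff.mp hvz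
    have hv : π v = 1 := by
      refine eq_one_of_two_pow (k := j) ?_ ?_
      · refine hk.coprime_dvd_left ?_
        rw [orderOf_dvd_iff_pow_eq_one, ← hi, map_zpow, ← zpow_natCast, zpow_comm, zpow_natCast,
          pow_orderOf_eq_one, one_zpow]
      · rw [← map_pow, ← hvj, pow_orderOf_eq_one, map_one]
    rw [← huv, map_mul, hv, mul_one]
  -- lifting the normaliser of the image of a subgroup `S` of `P`
  have hfr : ∀ S : Subgroup G, Q ≤ S → S ≤ (P : Subgroup G) →
      (P : Subgroup G) ≤ normalizer (S : Set G) → ∀ u ∈ L, (orderOf u).Coprime 2 →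
      (∀ y ∈ S, u * y * u⁻¹ ∈ S ⊔ N0) →
      ∃ w ∈ normalizer (S : Set G), (orderOf w).Coprime 2 ∧
        ∃ r ∈ S, r⁻¹ * (u * w⁻¹) ∈ N0 := by
    intro S hQS hSP hPS u hu huo huS
    have hSL : S ≤ L := hSP.trans hPQ
    set D := S ⊔ N0 with hD
    have hDL : D ≤ L := sup_le hSL hN0L
    have huD : u ∈ normalizer (D : Set G) := by
      refine mem_normalizer_of_conj_le fun y hy => ?_
      have : D ≤ D.comap (MulAut.conj u).toMonoidHom :=
        sup_le (fun y hy => huS y hy) fun y hy =>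
          mem_sup_right (conj_mem_normalizer (hLN0 hu) hy)
      exact this hy
    have hPD : (P : Subgroup G) ≤ normalizer (D : Set G) :=
      le_normalizer_sup hPS (hPQ.trans hLN0)
    obtain ⟨w, hwX, hwo, hwN, huw⟩ := exists_odd_lift P (X := L ⊓ normalizer (D : Set G))
      (le_inf hPQ hPD) (le_inf hDL le_normalizer) inf_le_right ⟨hu, huD⟩ huo
    have hmemD : ∀ x ∈ D, ∃ r ∈ S, r⁻¹ * x ∈ N0 := by
      intro x hx
      have h : x ∈ ((S ⊔ N0 : Subgroup G) : Set G) := hx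
      rw [Subgroup.coe_mul_of_left_le_normalizer_right S N0 (hSL.trans hLN0)] at h
      obtain ⟨r, hr, n, hn, rfl⟩ := h
      exact ⟨r, hr, by simpa using hn⟩
    have hinf : (P : Subgroup G) ⊓ D = S := by
      refine le_antisymm (fun x hx => ?_) (le_inf hSP le_sup_left)
      obtain ⟨r, hr, hrn⟩ := hmemD x hx.2
      have := mul_mem hr (hQS (hPN0 _ (mul_mem (inv_mem (hSP hr)) hx.1) hrn))
      simpa using this
    exact ⟨w, hinf ▸ hwN, hwo, hmemD _ huw⟩
  -- a normal complement to the Sylow subgroup of the quotient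
  have hnpc : Cfsg.HasNormalPComplement 2 (L ⧸ N0.subgroupOf L) := by
    refine Transfer.hasNormalPComplement_of_normalizer_le_centralizer Pb fun x hx => ?_
    obtain ⟨a, b, hab, -, hao, ⟨j, hbj⟩, haz, hbz⟩ := Elem69.exists_prime_split x Nat.prime_two
    rw [← hab]
    refine mul_mem ?_ ?_
    · have haN := zpowers_le.mpr hx haz
      obtain ⟨u, hua, huo⟩ := hlift a hao
      obtain ⟨w, hwP, hwo, r, hr, hrw⟩ := hfr P hQP le_rfl le_normalizer u u.2 huo (by
        intro y hy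
        have h1 := (mem_normalizer_iff.mp haN (π ⟨y, hPQ hy⟩)).mp ((hPb _).mpr ⟨_, hy, rfl⟩)
        rw [← hua, ← map_inv, ← map_mul, ← map_mul] at h1
        obtain ⟨s, hs, hse⟩ := (hPb _).mp h1
        rw [hπeq] at hse
        have h2 := mul_mem (mem_sup_left (T := N0) hs)
          (mem_sup_right (S := (P : Subgroup G)) hse)
        simpa [mul_assoc] using h2)
      have hwC := C.hN w hwP hwo
      have hwL : w ∈ L := centralizer_le_normalizer _
        (centralizer_le (SetLike.coe_subset_coe.mpr hQP) hwC)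
      have ha : a = π ⟨r, hPQ hr⟩ * π ⟨w, hwL⟩ := by
        rw [← hua, ← map_mul, eq_comm, hπeq]
        have h3 := (mem_normalizer_iff.mp (hLN0 (inv_mem hwL)) _).mp hrw
        simpa [mul_assoc] using h3
      rw [ha]
      refine mul_mem (mem_centralizer_iff.mpr fun y hy =>
        hcomm y hy _ ((hPb _).mpr ⟨_, hr, rfl⟩)) (mem_centralizer_iff.mpr fun y hy => ?_)
      obtain ⟨s, hs, rfl⟩ := (hPb y).mp hy
      rw [← map_mul, ← map_mul]
      exact congrArg π (Subtype.ext (mem_centralizer_iff.mp hwC (s : G) hs))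
    · have hbN := zpowers_le.mpr hx hbz
      have hb : IsPGroup 2 (zpowers b) := IsPGroup.of_card (by rw [Nat.card_zpowers, hbj])
      have h1 := Pb.is_maximal' (hb.to_sup_of_normal_right' Pb.2 (zpowers_le.mpr hbN)) le_sup_right
      exact mem_centralizer_iff.mpr fun y hy =>
        hcomm y hy b (h1.le (mem_sup_left (mem_zpowers b)))
  set Kb := Cfsg.pResidual 2 (L ⧸ N0.subgroupOf L) with hKb
  have hKodd : ∀ k ∈ Kb, (orderOf k).Coprime 2 := by
    intro k hk
    refine Nat.Coprime.coprime_dvd_left (Subgroup.orderOf_dvd_natCard Kb hk) ?_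
    rw [Nat.coprime_comm, Nat.prime_two.coprime_iff_not_dvd]
    exact Transfer.hasNormalPComplement_iff.mp hnpc
  let g' : L := ⟨g, hg⟩
  have hgK : π g' ∈ Kb := Transfer.mem_pResidual_of_coprime
    (Nat.Coprime.coprime_dvd_left (orderOf_map_dvd π g') (by rwa [← Subgroup.orderOf_coe]))
  have hg1 : π g' ≠ 1 := fun h =>
    hgc (hN0odd g (mem_subgroupOf.mp ((QuotientGroup.eq_one_iff g').mp h)) hgo)
  -- elements of `P` outside `Q` fix nothing in the complement
  have hfpf : ∀ s : L, (s : G) ∈ (P : Subgroup G) → (s : G) ∉ Q → ∀ k ∈ Kb, Commute (π s) k → k = 1 := by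
    intro s hs hsQ k hk hc
    obtain ⟨u, hua, huo⟩ := hlift k (hKodd k hk)
    set R := Q ⊔ zpowers (s : G) with hR
    have hRP : R ≤ (P : Subgroup G) := sup_le hQP (zpowers_le.mpr hs)
    have hlt : Q < R := lt_of_le_of_ne le_sup_left fun h =>
      hsQ (h ▸ mem_sup_right (mem_zpowers _))
    have hPR : (P : Subgroup G) ≤ normalizer (R : Set G) := by
      refine Coprime.le_normalizer_of_conj_mem fun a ha => ?_
      have : R ≤ R.comap (MulAut.conj a).toMonoidHom := by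
        refine sup_le (fun y hy => mem_sup_left (conj_mem_normalizer (hPQ ha) hy))
          (zpowers_le.mpr ?_)
        have := mul_mem (mem_sup_left (T := zpowers (s : G)) (hder a ha _ hs).1)
          (mem_sup_right (S := Q) (mem_zpowers (s : G)))
        simpa [mul_assoc] using this
      exact fun y hy => this hy
    obtain ⟨w, hwR, hwo, r, hr, hrw⟩ := hfr R le_sup_left hRP hPR u u.2 huo (by
      have : R ≤ (R ⊔ N0).comap (MulAut.conj (u : G)).toMonoidHom := by
        refine sup_le (fun y hy => mem_sup_left (mem_sup_left (conj_mem_normalizer u.2 hy)))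
          (zpowers_le.mpr ?_)
        have h1 : π (u * s * u⁻¹) = π s := by
          rw [map_mul, map_mul, map_inv, hua, ← hc.eq, mul_inv_cancel_right]
        rw [eq_comm, hπeq] at h1
        have := mul_mem (mem_sup_left (T := N0) (mem_sup_right (S := Q) (mem_zpowers (s : G))))
          (mem_sup_right (S := R) h1)
        simpa [mul_assoc] using this
      exact fun y hy => this hy)
    have hwZ : w ∈ Z :=
      centralizer_le (SetLike.coe_subset_coe.mpr hlt.le) (hnb R hRP hPR hlt w hwR hwo)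
    have hru : r⁻¹ * u ∈ N0 := by
      have := mul_mem hrw (mem_sup_right (S := Q) hwZ)
      simpa [mul_assoc] using this
    have hπ : π u = π ⟨r, hPQ (hRP hr)⟩ := by
      rw [eq_comm, hπeq]; exact hru
    obtain ⟨j, hj⟩ := P.2 ⟨r, hRP hr⟩
    have hj' : (⟨r, hPQ (hRP hr)⟩ : L) ^ (2 ^ j) = 1 := Subtype.ext (congrArg Subtype.val hj :)
    refine eq_one_of_two_pow (k := j) (hKodd k hk) ?_
    rw [← hua, hπ, ← map_pow, hj', map_one]
  have hbij : ∀ s : L, (s : G) ∈ (P : Subgroup G) → (s : G) ∉ Q → ∀ k ∈ Kb, ∃ x ∈ Kb,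
      x⁻¹ * (π s * x * (π s)⁻¹) = k := by
    intro s hs hsQ k hk
    let f : Kb → Kb := fun x => ⟨(x : L ⧸ N0.subgroupOf L)⁻¹ * (π s * x * (π s)⁻¹),
      mul_mem (inv_mem x.2) (Subgroup.Normal.conj_mem inferInstance _ x.2 _)⟩
    have hf : Function.Injective f := by
      intro x y hxy
      have h := congrArg Subtype.val hxy
      simp only [f] at h
      generalize hσ : π s = σ at h
      have h1 : (y : L ⧸ N0.subgroupOf L) * (x : L ⧸ N0.subgroupOf L)⁻¹ =
          σ * (y * (x : L ⧸ N0.subgroupOf L)⁻¹) * σ⁻¹ := by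
        have h2 := congrArg (fun z => (y : L ⧸ N0.subgroupOf L) * z *
          (σ * (x : L ⧸ N0.subgroupOf L)⁻¹ * σ⁻¹)) h
        simpa [mul_assoc] using h2
      have hc : Commute σ ((y : L ⧸ N0.subgroupOf L) * (x : L ⧸ N0.subgroupOf L)⁻¹) :=
        (mul_inv_eq_iff_eq_mul.mp h1.symm)
      have h3 := hfpf s hs hsQ _ (mul_mem y.2 (inv_mem x.2)) (hσ ▸ hc)
      exact Subtype.ext (mul_inv_eq_one.mp h3).symm
    obtain ⟨x, hx⟩ := Finite.injective_iff_surjective.mp hf ⟨k, hk⟩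
    exact ⟨x, x.2, congrArg Subtype.val hx⟩
  -- an element of `P` outside `Q` with square in `Q`
  obtain ⟨s0, hs0, hs0Q, hs0sq⟩ : ∃ s : L, (s : G) ∈ (P : Subgroup G) ∧ (s : G) ∉ Q ∧ (s : G) ^ 2 ∈ Q := by
    obtain ⟨t, htP, htQ⟩ : ∃ t ∈ (P : Subgroup G), t ∉ Q := by
      by_contra hcon
      push Not at hcon
      have hQeq : Q = (P : Subgroup G) := le_antisymm hQP hcon
      exact hgc (by rw [hZ, hQeq]; exact C.hN g (by rw [← hQeq]; exact hg) hgo)
    have hex : ∃ k, t ^ (2 ^ k) ∈ Q := by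
      obtain ⟨k, hk⟩ := P.2 ⟨t, htP⟩
      exact ⟨k, by rw [show t ^ (2 ^ k) = 1 from congrArg Subtype.val hk]; exact one_mem _⟩
    classical
    obtain ⟨m, hm⟩ : ∃ m, Nat.find hex = m + 1 :=
      Nat.exists_eq_succ_of_ne_zero fun h => htQ (by simpa [h] using Nat.find_spec hex)
    refine ⟨⟨t ^ (2 ^ m), hPQ (pow_mem htP _)⟩, pow_mem htP _, Nat.find_min hex (by omega), ?_⟩
    show (t ^ (2 ^ m)) ^ 2 ∈ Q
    rw [← pow_mul, ← pow_succ, ← hm]
    exact Nat.find_spec hex
  -- a general principle: a normal set containing some element of `P` outside `Q` contains `g`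
  have hgen : ∀ W : Subgroup G, N0 ≤ W → (∀ l ∈ L, ∀ a ∈ W, l * a * l⁻¹ ∈ W) →
      ∀ s : L, (s : G) ∈ (P : Subgroup G) → (s : G) ∉ Q → (s : G) ∈ W → g ∈ W := by
    intro W hW hWn s hs hsQ hsW
    obtain ⟨x, -, hx⟩ := hbij s hs hsQ _ hgK
    obtain ⟨x, rfl⟩ := hπsurj x
    rw [← map_inv, ← map_inv, ← map_mul, ← map_mul, ← map_mul, hπeq] at hx
    have h1 : (x : G)⁻¹ * (s * x * (s : G)⁻¹) ∈ W := by
      have := mul_mem (hWn _ (inv_mem x.2) _ hsW) (inv_mem hsW)
      simpa [mul_assoc] using this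
    have := mul_mem h1 (hW hx)
    simpa [g', mul_assoc] using this
  -- trivial action modulo the centre
  have hcommg : g ∈ trivQuot Q := by
    refine hgen (trivQuot Q) (sup_le ?_ ?_) (fun l hl a ha => conj_mem_trivQuot hl ha) s0 hs0 hs0Q ?_
    · exact fun q hq => ⟨le_normalizer hq, fun y hy => hder q (hQP hq) y (hQP hy)⟩
    · exact fun c hc => ⟨hZL hc, fun y hy => by
        rw [← mem_centralizer_iff.mp hc y hy]; simp⟩
    · exact ⟨hPQ hs0, fun y hy => hder _ hs0 y (hQP hy)⟩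
  -- squares of `P` lie in `Q`
  have hsq : ∀ u ∈ (P : Subgroup G), u ^ 2 ∈ Q := by
    intro u hu
    by_contra huQ
    set E : Set G := {e | e ∈ zq Q ∧ e ^ 2 = 1} with hE
    have hmemE : ∀ x ∈ L, ∀ e ∈ E, x⁻¹ * e * x ∈ E := fun x hx e he =>
      ⟨conj_mem_zq' hx he.1, by
        have := @conj_pow G _ 2 x⁻¹ e
        rw [inv_inv] at this
        rw [this, he.2]; simp⟩
    have hgE : g ∈ centralizer E := by
      refine hgen (centralizer E) (sup_le ?_ ?_) ?_ ⟨u ^ 2, hPQ (pow_mem hu 2)⟩ (pow_mem hu 2) huQ ?_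
      · exact fun q hq => mem_centralizer_iff.mpr fun e he =>
          (mem_centralizer_iff.mp he.1.2 q hq).symm
      · exact fun c hc => mem_centralizer_iff.mpr fun e he => mem_centralizer_iff.mp hc e he.1.1
      · intro l hl a ha
        rw [mem_centralizer_iff]
        intro e he
        have h := congrArg (fun z => l * z * l⁻¹)
          (mem_centralizer_iff.mp ha _ (hmemE l hl e he))
        simpa [mul_assoc] using h
      · rw [mem_centralizer_iff]
        intro e he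
        have hce : Commute (u * e * u⁻¹ * e⁻¹) u := C.hcl u hu e (hQP he.1.1) u hu
        set c := u * e * u⁻¹ * e⁻¹ with hc
        have hue : u * e * u⁻¹ = c * e := by rw [hc]; group
        have hcE : Commute c e := C.hcl u hu e (hQP he.1.1) e (hQP he.1.1)
        have hc2 : c ^ 2 = 1 := by
          have h := congrArg (· ^ 2) hue
          simp only [conj_pow, he.2, mul_one, mul_inv_cancel, hcE.mul_pow] at h
          exact h.symm
        have h2 : u ^ 2 * e * (u ^ 2)⁻¹ = e := by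
          rw [show u ^ 2 * e * (u ^ 2)⁻¹ = u * (u * e * u⁻¹) * u⁻¹ by rw [pow_two]; simp only [mul_assoc, mul_inv_rev], hue,
            show u * (c * e) * u⁻¹ = (u * c * u⁻¹) * (u * e * u⁻¹) by group,
            ← hce.eq, mul_inv_cancel_right, hue, ← mul_assoc, ← pow_two, hc2, one_mul]
        exact (mul_inv_eq_iff_eq_mul.mp h2).symm
    have hV : ∀ k : ℕ, ∀ v ∈ zq Q, v ^ (2 ^ k) = 1 → g * v * g⁻¹ = v := by
      intro k
      induction k with
      | zero => intro v _ h; rw [pow_zero, pow_one] at h; simp [h]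
      | succ k ih =>
        intro v hv hk
        have hv2 : (v ^ 2) ^ (2 ^ k) = 1 := by rw [← pow_mul, ← pow_succ']; exact hk
        have h2 : (g * v * g⁻¹) ^ 2 = v ^ 2 := by
          rw [conj_pow]; exact ih _ (pow_mem hv 2) hv2
        set d := g * v * g⁻¹ * v⁻¹ with hd
        have hdV : d ∈ zq Q := mul_mem (conj_mem_zq hg hv) (inv_mem hv)
        have hd2 : d ^ 2 = 1 := by
          have hcv : Commute (g * v * g⁻¹) v⁻¹ :=
            (show Commute (g * v * g⁻¹) v from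
              mem_centralizer_iff.mp hv.2 _ (conj_mem_normalizer hg hv.1)).inv_right
          rw [hd, hcv.mul_pow, h2, inv_pow, mul_inv_cancel]
        have hd1 : d = 1 := eq_one_of_shift (y := v) (k := 1) hgo (by rw [hd]; group)
          (by rw [← mem_centralizer_iff.mp hgE d ⟨hdV, hd2⟩, mul_inv_cancel_right]) (by simpa using hd2)
        rw [hd, mul_inv_eq_one] at hd1
        exact hd1
    refine hgc (mem_centralizer_iff.mpr fun y hy => ?_)
    have hc := hcommg.2 y hy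
    obtain ⟨k, hk⟩ := P.2 ⟨_, hQP hc.1⟩
    have h1 := eq_one_of_shift (y := y) (c := g * y * g⁻¹ * y⁻¹) hgo (by group)
      (hV k _ hc (congrArg Subtype.val hk)) (congrArg Subtype.val hk)
    rw [mul_inv_eq_one, mul_inv_eq_iff_eq_mul] at h1
    exact h1.symm
  -- inversion
  have hinvk : ∀ s : L, (s : G) ∈ (P : Subgroup G) → (s : G) ∉ Q → π s * π g' * (π s)⁻¹ = (π g')⁻¹ := by
    intro s hs hsQ
    obtain ⟨x, -, hx⟩ := hbij s hs hsQ _ hgK
    have hs2 : π s * π s = 1 := by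
      rw [← map_mul, ← (QuotientGroup.mk' (N0.subgroupOf L)).map_one, eq_comm, hπeq]
      simpa [pow_two] using mem_sup_left (T := Z) (hsq _ hs)
    have hsi : (π s)⁻¹ = π s := inv_eq_of_mul_eq_one_right hs2
    rw [← hx, hsi]
    calc π s * (x⁻¹ * (π s * x * π s)) * π s
        = π s * x⁻¹ * π s * x * (π s * π s) := by group
      _ = π s * x⁻¹ * π s * x := by rw [hs2, mul_one]
      _ = (x⁻¹ * (π s * x * (π s)⁻¹))⁻¹ := by rw [mul_inv_rev, mul_inv_rev, mul_inv_rev, inv_inv, inv_inv, hsi]; group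
      _ = (x⁻¹ * (π s * x * π s))⁻¹ := by rw [hsi]
  refine ⟨hQP, hPQ, hg, hgo, hgc, hcen, ?_, hcommg.2, ?_⟩
  · intro s hs t ht hsQ htQ
    by_contra hst
    have h1 := hinvk ⟨s, hPQ hs⟩ hs hsQ
    have h2 := hinvk ⟨t, hPQ ht⟩ ht htQ
    have h3 := hinvk (⟨s, hPQ hs⟩ * ⟨t, hPQ ht⟩) (mul_mem hs ht) hst
    rw [map_mul] at h3
    generalize π g' = γ, π ⟨s, hPQ hs⟩ = σ, π ⟨t, hPQ ht⟩ = τ at h1 h2 h3 hg1 hgK
    rw [show σ * τ * γ * (σ * τ)⁻¹ = σ * (τ * γ * τ⁻¹) * σ⁻¹ by group, h2,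
      show σ * γ⁻¹ * σ⁻¹ = (σ * γ * σ⁻¹)⁻¹ by group, h1, inv_inv] at h3
    refine hg1 (eq_one_of_two_pow (k := 1) (hKodd γ hgK) ?_)
    rw [pow_one, pow_two]
    exact mul_eq_one_iff_eq_inv.mpr h3
  · intro t ht htQ v hv
    have h1 := hinvk ⟨t, hPQ ht⟩ ht htQ
    rw [← map_inv, ← map_inv, ← map_mul, ← map_mul, eq_comm, hπeq] at h1
    obtain ⟨q, hq, c, hc, hqc⟩ := hmemN0 _ h1
    have hw : t * g * t⁻¹ = g⁻¹ * (q * c) := by
      rw [← hqc]; simp [g', mul_assoc]
    have hcv : c * v * c⁻¹ = v := by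
      rw [← mem_centralizer_iff.mp hc v hv.1, mul_inv_cancel_right]
    have hqv : q * v * q⁻¹ = v := by rw [mem_centralizer_iff.mp hv.2 q hq, mul_inv_cancel_right]
    rw [hw, show g⁻¹ * (q * c) * v * (g⁻¹ * (q * c))⁻¹ = g⁻¹ * (q * (c * v * c⁻¹) * q⁻¹) * g by group,
      hcv, hqv]

end Cfsg.Agent.Lib.MaxInvNilpotent
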