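import Cfsg.Agent.Lib.MaxInvNilpotent.Partner
import Cfsg.Agent.Lib.Elem69.MaximalNilpotent
import Cfsg.Agent.Lib.OddCond.InvNilpotent

/-!
Solvability of a group with a nilpotent maximal invariant subgroup under a coprime action, whose
Sylow `2`-subgroups have class at most two.
-/

set_option autoImplicit false

open Subgroup

namespace Cfsg.Agent.Lib.MaxInvNilpotent

universe u v

variable {G : Type u} [Group G] [Finite G] {A : Type v} [Group A] [Finite A]

/-- `M` is maximal among the proper invariant subgroups. -/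
structure MaxInv (φ : A →* MulAut G) (M : Subgroup G) : Prop where
  ne_top : M ≠ ⊤
  inv : ∀ a : A, ∀ m ∈ M, φ a m ∈ M
  max : ∀ H : Subgroup G, M ≤ H → H ≠ ⊤ → (∀ a : A, ∀ h ∈ H, φ a h ∈ H) → H = M

/-- Two-elements of `M` form a group of class at most two. -/
def TwoClassTwo {H : Type*} [Group H] (M : Subgroup H) : Prop :=
  ∀ a ∈ M, ∀ b ∈ M, ∀ c ∈ M, (∃ k, orderOf a = 2 ^ k) → (∃ k, orderOf b = 2 ^ k) →
    (∃ k, orderOf c = 2 ^ k) → Commute (a * b * a⁻¹ * b⁻¹) c

theorem twoClassTwo_of_sylow (M : Subgroup G) [Group.IsNilpotent M]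
    (h2 : ∀ S : Sylow 2 ↥M, Group.nilpotencyClass ↥(S : Subgroup ↥M) ≤ 2) : TwoClassTwo M := by
  have : Fact (Nat.Prime 2) := ⟨Nat.prime_two⟩
  let S : Sylow 2 M := default
  have hSn : (S : Subgroup M).Normal :=
    S.normal_of_normalizerCondition Group.normalizerCondition_of_isNilpotent
  have hmem : ∀ x : M, (∃ k, orderOf (x : G) = 2 ^ k) → x ∈ (S : Subgroup M) := by
    intro x ⟨k, hk⟩
    rw [Subgroup.orderOf_coe] at hk
    have h : IsPGroup 2 (zpowers x) := IsPGroup.of_card (by rw [Nat.card_zpowers, hk])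
    exact (S.is_maximal' (h.to_sup_of_normal_right S.2) le_sup_right).le
      (mem_sup_left (mem_zpowers x))
  have : Group.IsNilpotent (S : Subgroup M) := S.2.isNilpotent
  have h1 : Subgroup.lowerCentralSeries (⊤ : Subgroup (S : Subgroup M)) 2 = ⊥ :=
    Subgroup.lowerCentralSeries_eq_bot_iff_nilpotencyClass_le.mpr (h2 S)
  intro a ha b hb c hc hao hbo hco
  let a' : (S : Subgroup M) := ⟨⟨a, ha⟩, hmem _ hao⟩
  let b' : (S : Subgroup M) := ⟨⟨b, hb⟩, hmem _ hbo⟩
  let c' : (S : Subgroup M) := ⟨⟨c, hc⟩, hmem _ hco⟩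
  have h3 : a' * b' * a'⁻¹ * b'⁻¹ ∈ Subgroup.lowerCentralSeries (⊤ : Subgroup (S : Subgroup M)) 1 :=
    Subgroup.commutator_mem_commutator (Subgroup.mem_top a') (Subgroup.mem_top b')
  have h4 : (a' * b' * a'⁻¹ * b'⁻¹) * c' * (a' * b' * a'⁻¹ * b'⁻¹)⁻¹ * c'⁻¹ ∈
      (⊥ : Subgroup (S : Subgroup M)) :=
    h1 ▸ Subgroup.commutator_mem_commutator h3 (Subgroup.mem_top c')
  exact (commutatorElement_eq_one_iff_commute.mp (Subgroup.mem_bot.mp h4)).map
    (M.subtype.comp (S : Subgroup M).subtype)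

theorem map_eq_of_invariant {U : Subgroup G} (φ : A →* MulAut G)
    (h : ∀ a : A, ∀ x ∈ U, φ a x ∈ U) (a : A) : U.map (φ a).toMonoidHom = U := by
  refine eq_of_le_of_card_ge ?_ (card_map_of_injective (φ a).injective).ge
  rintro _ ⟨x, hx, rfl⟩
  exact h a x hx

variable {φ : A →* MulAut G} {M : Subgroup G}

theorem normalizer_eq (hM : MaxInv φ M)
    (hcore : ∀ K : Subgroup G, K.Normal → (∀ a : A, ∀ x ∈ K, φ a x ∈ K) → K ≤ M → K = ⊥)
    {U : Subgroup G} (hUM : U ≤ M) (hU : U ≠ ⊥) (hUi : ∀ a : A, ∀ x ∈ U, φ a x ∈ U)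
    (hn : M ≤ normalizer (U : Set G)) : normalizer (U : Set G) = M := by
  refine hM.max _ hn (fun h => hU (hcore U (normalizer_eq_top_iff.mp h) hUi hUM)) fun a x hx => ?_
  have h1 : φ a x ∈ (normalizer (U : Set G)).map (φ a).toMonoidHom := ⟨x, hx, rfl⟩
  rwa [map_equiv_normalizer_eq, map_eq_of_invariant φ hUi a] at h1

theorem exists_sylow (hM : MaxInv φ M) [Group.IsNilpotent M]
    (hcore : ∀ K : Subgroup G, K.Normal → (∀ a : A, ∀ x ∈ K, φ a x ∈ K) → K ≤ M → K = ⊥)
    {p : ℕ} [Fact p.Prime] (hpM : p ∣ Nat.card M) :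
    ∃ P : Sylow p G, (P : Subgroup G) ≤ M ∧ (P : Subgroup G) ≠ ⊥ ∧
      (∀ a : A, (P : Subgroup G).map (φ a).toMonoidHom = P) ∧
      normalizer ((P : Subgroup G) : Set G) = M ∧
      ∀ x ∈ M, (∃ k, orderOf x = p ^ k) → x ∈ (P : Subgroup G) := by
  let R : Sylow p M := default
  have hRn : (R : Subgroup M).Normal :=
    R.normal_of_normalizerCondition Group.normalizerCondition_of_isNilpotent
  set P0 := (R : Subgroup M).map M.subtype with hP0
  have hP0M : P0 ≤ M := by rw [hP0]; exact Subgroup.map_subtype_le _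
  have hP0ne : P0 ≠ ⊥ := fun h => R.ne_bot_of_dvd_card hpM
    ((Subgroup.map_eq_bot_iff_of_injective _ M.subtype_injective).mp h)
  have hmem : ∀ x ∈ M, (∃ k, orderOf x = p ^ k) → x ∈ P0 := by
    intro x hx ⟨k, hk⟩
    have h : IsPGroup p (zpowers (⟨x, hx⟩ : M)) :=
      IsPGroup.of_card (by rw [Nat.card_zpowers, Subgroup.orderOf_mk, hk])
    exact ⟨⟨x, hx⟩, (R.is_maximal' (h.to_sup_of_normal_right R.2) le_sup_right).le
      (mem_sup_left (mem_zpowers _)), rfl⟩
  have hinv : ∀ a : A, ∀ x ∈ P0, φ a x ∈ P0 := by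
    rintro a _ ⟨x, hx, rfl⟩
    obtain ⟨k, hk⟩ := IsPGroup.iff_orderOf.mp R.2 ⟨x, hx⟩
    refine hmem _ (hM.inv a _ x.2) ⟨k, ?_⟩
    rw [MulEquiv.orderOf_eq, Subgroup.subtype_apply, Subgroup.orderOf_coe, ← hk,
      ← Subgroup.orderOf_coe (⟨x, hx⟩ : (R : Subgroup M))]
  have hnorm : normalizer (P0 : Set G) = M := by
    refine normalizer_eq hM hcore hP0M hP0ne hinv (Coprime.le_normalizer_of_conj_mem ?_)
    rintro m hm _ ⟨r, hr, rfl⟩
    exact ⟨⟨m, hm⟩ * r * ⟨m, hm⟩⁻¹, hRn.conj_mem r hr _, rfl⟩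
  obtain ⟨P, hP⟩ := (R.isPGroup'.map M.subtype).exists_le_sylow
  suffices h : P0 = (P : Subgroup G) by
    exact ⟨P, h ▸ hP0M, h ▸ hP0ne, fun a => h ▸ map_eq_of_invariant φ hinv a, h ▸ hnorm, h ▸ hmem⟩
  by_contra hne
  have hlt := Transfer.lt_inf_normalizer P.isPGroup' (lt_of_le_of_ne hP hne)
  rw [hnorm] at hlt
  have h1 : IsPGroup p (((P : Subgroup G) ⊓ M).subgroupOf M) :=
    (P.isPGroup'.to_le inf_le_left).of_equiv (Subgroup.subgroupOfEquivOfLe inf_le_right).symm
  have h2 : (R : Subgroup M) ≤ ((P : Subgroup G) ⊓ M).subgroupOf M := by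
    intro x hx
    exact hlt.le ⟨x, hx, rfl⟩
  have h3 := R.is_maximal' h1 h2
  apply hlt.ne
  show (R : Subgroup M).map M.subtype = _
  rw [← h3, Subgroup.subgroupOf_map_subtype, inf_eq_left.mpr inf_le_right]

theorem hasNormalPComplement (hM : MaxInv φ M) (hcop : (Nat.card A).Coprime (Nat.card G))
    [Group.IsNilpotent M] (hcl : TwoClassTwo M)
    (hcore : ∀ K : Subgroup G, K.Normal → (∀ a : A, ∀ x ∈ K, φ a x ∈ K) → K ≤ M → K = ⊥)
    (p : ℕ) [Fact p.Prime] (hpM : p ∣ Nat.card M) : Cfsg.HasNormalPComplement p G := by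
  obtain ⟨P, hPM, hPne, hPφ, hPN, hmem⟩ := exists_sylow hM hcore hpM
  have hMc : Cfsg.HasNormalPComplement p M :=
    NilpotentLocal.hasNormalPComplement_of_isNilpotent (G := M) p
  by_cases hp2 : p = 2
  swap
  · refine ThompsonNPC.hasNormalPComplement_of_glaubermanThompson hp2 P ?_
    have hle : Cfsg.centerThompsonOf p (P : Subgroup G) ≤ (P : Subgroup G) :=
      inf_le_left.trans (Thompson.thompsonSubgroupOf_le p _)
    have hmap : ∀ e : MulAut G, (P : Subgroup G).map e.toMonoidHom = P →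
        (Cfsg.centerThompsonOf p (P : Subgroup G)).map e.toMonoidHom =
          Cfsg.centerThompsonOf p (P : Subgroup G) := by
      intro e he
      have h := MaxCentralisers.centerThompsonOf_map (p := p) (f := e.toMonoidHom) e.injective
        (P : Subgroup G)
      rw [he] at h
      exact h.symm
    rw [normalizer_eq hM hcore (hle.trans hPM) (ThompsonNPC.centerThompsonOf_ne_bot P.2 hPne)
      (fun a x hx => by rw [← hmap _ (hPφ a)]; exact mem_map_of_mem _ hx) fun m hm => by
        rw [mem_normalizer_iff_map_conj_eq]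
        exact hmap _ (mem_normalizer_iff_map_conj_eq.mp (hPN.ge hm))]
    exact hMc
  subst hp2
  have hodd : ∀ m ∈ M, (orderOf m).Coprime 2 → m ∈ centralizer ((P : Subgroup G) : Set G) := by
    intro m hm hmo
    rw [mem_centralizer_iff]
    intro z hz
    have hc := Transfer.hasNormalPComplement_iff_locallyPTrivial.mp hMc
      ((P : Subgroup G).subgroupOf M)
      (P.isPGroup'.of_equiv (Subgroup.subgroupOfEquivOfLe hPM).symm) ⟨m, hm⟩ (by
        rw [mem_normalizer_iff]
        intro w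
        exact mem_normalizer_iff.mp (hPN.ge hm) (w : G)) (by rwa [Subgroup.orderOf_mk])
    exact congrArg Subtype.val (mem_centralizer_iff.mp hc ⟨z, hPM hz⟩ hz)
  have hpow : ∀ x ∈ (P : Subgroup G), ∃ k, orderOf x = 2 ^ k := fun x hx => by
    obtain ⟨k, hk⟩ := IsPGroup.iff_orderOf.mp P.2 ⟨x, hx⟩
    exact ⟨k, by rw [← hk, Subgroup.orderOf_mk]⟩
  have hC : Ctx P := ⟨fun a ha b hb c hc =>
    hcl a (hPM ha) b (hPM hb) c (hPM hc) (hpow a ha) (hpow b hb) (hpow c hc),
    fun g hg hgo => hodd g (hPN.le hg) hgo⟩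
  have hA : ∀ a : A, (orderOf a).Coprime 2 := fun a =>
    Nat.Coprime.coprime_dvd_left (orderOf_dvd_natCard a)
      (hcop.coprime_dvd_right (hpM.trans (Subgroup.card_subgroup_dvd_card M)))
  rw [Transfer.hasNormalPComplement_iff_locallyPTrivial]
  intro Q hQ g hg hgo
  refine Elem69.coprime_centralizes_of_class_two P hC.hcl ?_ Q hQ g hg hgo
  intro R hR _ hPR y hy hyo
  by_contra hne
  refine not_bad φ hC hPφ hA ?_ R ⟨hR, hPR, y, hy, hyo, hne⟩
  intro U hU hUne hUφ hPU g hg hgo
  have hMU : M ≤ normalizer (U : Set G) := by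
    intro m hm
    obtain ⟨u, w, huw, -, hu, hw, huz, hwz⟩ := Elem69.exists_prime_split m Nat.prime_two
    rw [← huw]
    refine mul_mem (mem_normalizer_of_conj_le fun z hz => ?_)
      (hPU (hmem w (zpowers_le.mpr hm hwz) hw))
    rwa [← mem_centralizer_iff.mp (hodd u (zpowers_le.mpr hm huz) hu) z (hU hz),
      mul_inv_cancel_right]
  rw [normalizer_eq hM hcore (hU.trans hPM) hUne hUφ hMU] at hg
  exact hodd g hg hgo

theorem isSolvable_of_corefree (hM : MaxInv φ M) (hcop : (Nat.card A).Coprime (Nat.card G))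
    [Group.IsNilpotent M] (hcl : TwoClassTwo M)
    (hcore : ∀ K : Subgroup G, K.Normal → (∀ a : A, ∀ x ∈ K, φ a x ∈ K) → K ≤ M → K = ⊥)
    (hMne : M ≠ ⊥) : Group.IsSolvable G := by
  set K : Subgroup G := ⨅ p ∈ (Nat.card M).primeFactors, Cfsg.pResidual p G with hK
  have hKn : K.Normal := by
    rw [hK]
    exact Subgroup.normal_iInf_normal fun p => Subgroup.normal_iInf_normal fun _ => inferInstance
  have hKi : ∀ a : A, ∀ x ∈ K, φ a x ∈ K := by
    intro a x hx
    rw [hK] at hx ⊢
    simp only [mem_iInf] at hx ⊢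
    exact fun p hp => Transfer.map_pResidual_le (φ a).toMonoidHom ⟨x, hx p hp, rfl⟩
  have hKcop : (Nat.card M).Coprime (Nat.card K) := by
    refine Nat.coprime_of_dvd' fun p hp h1 h2 => ?_
    exfalso
    have : Fact p.Prime := ⟨hp⟩
    have h3 := Transfer.hasNormalPComplement_iff.mp (hasNormalPComplement hM hcop hcl hcore p h1)
    exact h3 (h2.trans (Subgroup.card_dvd_of_le
      (iInf₂_le p (Nat.mem_primeFactors.mpr ⟨hp, h1, Nat.card_pos.ne'⟩))))
  have hinf : M ⊓ K = ⊥ := Subgroup.inf_eq_bot_of_coprime hKcop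
  have hKne : K ≠ ⊥ := by
    intro h
    have hdvd : M.index = 1 := by
      by_contra hne
      obtain ⟨q, hq, hqd⟩ := Nat.exists_prime_and_dvd hne
      have : Fact q.Prime := ⟨hq⟩
      by_cases hqM : q ∣ Nat.card M
      · obtain ⟨P, hPM, -, -, -, -⟩ := exists_sylow hM hcore hqM
        exact P.not_dvd_index (hqd.trans (Subgroup.index_dvd_of_le hPM))
      · obtain ⟨x, hx⟩ := exists_prime_orderOf_dvd_card' (G := G) q
          (hqd.trans M.index_dvd_card)
        have hxK : x ∈ K := by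
          rw [hK]
          simp only [Subgroup.mem_iInf]
          intro p hp
          refine Transfer.mem_pResidual_of_coprime ?_
          rw [hx, Nat.coprime_primes hq (Nat.prime_of_mem_primeFactors hp)]
          rintro rfl
          exact hqM (Nat.dvd_of_mem_primeFactors hp)
        rw [h, Subgroup.mem_bot] at hxK
        rw [hxK, orderOf_one] at hx
        exact hq.ne_one hx.symm
    exact hM.ne_top (Subgroup.index_eq_one.mp hdvd)
  have hsup : ∀ U : Subgroup G, U ≤ K → U ≠ ⊥ → (∀ a : A, ∀ x ∈ U, φ a x ∈ U) → M ⊔ U = ⊤ := by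
    intro U hUK hU hUi
    by_contra hne
    have h1 : M ⊔ U = M := by
      refine hM.max _ le_sup_left hne fun a x hx => ?_
      have : M ⊔ U ≤ (M ⊔ U).comap (φ a).toMonoidHom :=
        sup_le (fun y hy => mem_sup_left (hM.inv a y hy)) fun y hy => mem_sup_right (hUi a y hy)
      exact this hx
    exact hU (le_bot_iff.mp (hinf ▸ le_inf (sup_eq_left.mp h1) hUK))
  have htop : M ⊔ K = ⊤ := hsup K le_rfl hKne hKi
  obtain ⟨q, hq, hqK⟩ := Nat.exists_prime_and_dvd
    (show Nat.card K ≠ 1 from fun h => hKne (Subgroup.card_eq_one.mp h))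
  have : Fact q.Prime := ⟨hq⟩
  have hMn : M ≤ normalizer (K : Set G) := by rw [Subgroup.normalizer_eq_top K]; exact le_top
  have : Group.IsSolvable M := inferInstance
  obtain ⟨S, hS⟩ := Coprime.exists_invariant_sylow (p := q) hMn hKcop (Or.inl inferInstance)
  set Q := (S : Subgroup K).map K.subtype with hQ
  have hQK : Q ≤ K := by rw [hQ]; exact Subgroup.map_subtype_le _
  have hQne : Q ≠ ⊥ := fun h => S.ne_bot_of_dvd_card hqK
    ((Subgroup.map_eq_bot_iff_of_injective _ K.subtype_injective).mp h)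
  have hNM : normalizer (M : Set G) = M :=
    normalizer_eq hM hcore le_rfl hMne hM.inv le_normalizer
  have hQi : ∀ a : A, ∀ x ∈ Q, φ a x ∈ Q := by
    intro a
    set Q1 := Q.map (φ a).toMonoidHom with hQ1
    have hQ1K : Q1 ≤ K := by rintro _ ⟨x, hx, rfl⟩; exact hKi a x (hQK hx)
    have hQ1n : M ≤ normalizer (Q1 : Set G) := by
      calc M = M.map (φ a).toMonoidHom := (map_eq_of_invariant φ hM.inv a).symm
        _ ≤ (normalizer (Q : Set G)).map (φ a).toMonoidHom := map_mono hS
        _ = _ := map_equiv_normalizer_eq Q (φ a)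
    have hcard : Nat.card (Q1.subgroupOf K) = q ^ (Nat.card K).factorization q := by
      rw [Nat.card_congr (subgroupOfEquivOfLe hQ1K).toEquiv, hQ1,
        card_map_of_injective (φ a).injective, hQ, card_map_of_injective K.subtype_injective,
        S.card_eq_multiplicity]
    let S1 : Sylow q K := Sylow.ofCard (Q1.subgroupOf K) hcard
    have hS1 : (S1 : Subgroup K).map K.subtype = Q1 := by
      show (Q1.subgroupOf K).map K.subtype = Q1
      exact map_subgroupOf_eq_of_le hQ1K
    obtain ⟨c, hc, hcS⟩ := Coprime.exists_centralizer_conj_eq hMn hKcop (Or.inl inferInstance) hS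
      (P := S) (Q := S1) (by rw [hS1]; exact hQ1n)
    have hc1 : c = 1 := by
      have h1 : (c : G) ∈ M := hNM.le (centralizer_le_normalizer _ hc)
      exact Subtype.ext (mem_bot.mp (hinf ▸ (⟨h1, c.2⟩ : (c : G) ∈ M ⊓ K)))
    rw [hc1, one_smul] at hcS
    intro x hx
    have h2 : φ a x ∈ Q1 := ⟨x, hx, rfl⟩
    rw [← hS1, ← hcS] at h2
    exact h2
  have htop' : M ⊔ Q = ⊤ := hsup Q hQK hQne hQi
  have hQn : Q.Normal := by
    rw [← Subgroup.normalizer_eq_top_iff, eq_top_iff, ← htop']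
    exact sup_le hS Subgroup.le_normalizer
  have hQeq : Q = K := by
    refine Subgroup.eq_of_le_of_card_ge hQK ?_
    have h1 := SZ.card_sup_mul_card_inf M K
    have h2 := SZ.card_sup_mul_card_inf M Q
    have h3 : M ⊓ Q = ⊥ := le_bot_iff.mp (hinf ▸ inf_le_inf_left _ hQK)
    rw [htop, hinf, Subgroup.card_bot, mul_one, Subgroup.card_top] at h1
    rw [htop', h3, Subgroup.card_bot, mul_one, Subgroup.card_top, h1] at h2
    exact (Nat.eq_of_mul_eq_mul_left Nat.card_pos h2).le
  have hKs : Group.IsSolvable K := by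
    have hp : IsPGroup q K := hQeq ▸ S.isPGroup'.map K.subtype
    exact OddCond.isPGroup_isSolvable hp
  have hGK : Group.IsSolvable (G ⧸ K) := by
    refine Group.isSolvable_of_surjective (f := (QuotientGroup.mk' K).comp M.subtype) ?_
    rw [← MonoidHom.range_eq_top, MonoidHom.range_comp, Subgroup.range_subtype]
    have := congrArg (Subgroup.map (QuotientGroup.mk' K)) htop
    rwa [Subgroup.map_sup, (Subgroup.map_eq_bot_iff K).mpr (QuotientGroup.ker_mk' K).ge, sup_bot_eq,
      Subgroup.map_top_of_surjective _ (QuotientGroup.mk'_surjective K)] at this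
  exact Group.isSolvable_of_ker_le_range K.subtype (QuotientGroup.mk' K)
    (by rw [QuotientGroup.ker_mk', Subgroup.range_subtype])

theorem isSolvable_of_bot (hFTA : OddCond.OddSolvable.{v}) (hFTG : OddCond.OddSolvable.{u})
    (hM : MaxInv φ (⊥ : Subgroup G)) (hcop : (Nat.card A).Coprime (Nat.card G)) :
    Group.IsSolvable G := by
  have hne : Nat.card G ≠ 1 := fun h =>
    hM.ne_top (by rw [eq_comm, ← Subgroup.card_eq_one, Subgroup.card_top, h])
  obtain ⟨p, hp, hpd⟩ := Nat.exists_prime_and_dvd hne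
  have : Fact p.Prime := ⟨hp⟩
  letI : MulDistribMulAction A G := MulDistribMulAction.compHom G φ
  obtain ⟨P, hP⟩ := OddCond.exists_invariant_sylow hFTA hFTG hcop p
  have htop : (P : Subgroup G) = ⊤ := by
    by_contra h
    exact P.ne_bot_of_dvd_card hpd (hM.max _ bot_le h hP)
  exact OddCond.isPGroup_isSolvable ((htop ▸ P.2 : IsPGroup p (⊤ : Subgroup G)).of_equiv topEquiv)

theorem isSolvable (hFTA : OddCond.OddSolvable.{v}) (hFTG : OddCond.OddSolvable.{u})
    (φ : A →* MulAut G) (hcop : (Nat.card A).Coprime (Nat.card G)) (M : Subgroup G)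
    (hM : MaxInv φ M) (hnil : Group.IsNilpotent M) (hcl : TwoClassTwo M) :
    Group.IsSolvable G := by
  induction h : Nat.card G using Nat.strong_induction_on generalizing G with
  | _ n ih =>
    by_cases hcore : ∀ K : Subgroup G, K.Normal → (∀ a : A, ∀ x ∈ K, φ a x ∈ K) → K ≤ M → K = ⊥
    · by_cases hMb : M = ⊥
      · exact isSolvable_of_bot hFTA hFTG (hMb ▸ hM) hcop
      · exact isSolvable_of_corefree hM hcop hcl hcore hMb
    · push Not at hcore
      obtain ⟨K, hKn, hKi, hKM, hKne⟩ := hcore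
      let ρ := QuotientGroup.mk' K
      have hρ : Function.Surjective ρ := QuotientGroup.mk'_surjective K
      have hsurj : Function.Surjective (ρ.subgroupMap M) := MonoidHom.subgroupMap_surjective ρ M
      have hcomap : (M.map ρ).comap ρ = M := by
        rw [Subgroup.comap_map_eq_self]
        rw [QuotientGroup.ker_mk']; exact hKM
      let φ' : A →* MulAut (G ⧸ K) :=
        { toFun := fun a => QuotientGroup.congr K K (φ a) (map_eq_of_invariant φ hKi a)
          map_one' := by
            refine MulEquiv.ext fun q => ?_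
            obtain ⟨x, rfl⟩ := hρ q
            show ρ (φ 1 x) = ρ x
            rw [map_one]; rfl
          map_mul' := fun a b => by
            refine MulEquiv.ext fun q => ?_
            obtain ⟨x, rfl⟩ := hρ q
            show ρ (φ (a * b) x) = ρ (φ a (φ b x))
            rw [map_mul]; rfl }
      have hφ' : ∀ a x, φ' a (ρ x) = ρ (φ a x) := fun a x => rfl
      have hM' : MaxInv φ' (M.map ρ) := by
        refine ⟨fun h => hM.ne_top ?_, ?_, fun H hMH hH hHi => ?_⟩
        · rw [← hcomap, h, Subgroup.comap_top]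
        · rintro a _ ⟨m, hm, rfl⟩
          exact ⟨φ a m, hM.inv a m hm, (hφ' a m).symm⟩
        · have h1 : H.comap ρ = M := by
            refine hM.max _ (hcomap ▸ comap_mono hMH) (fun h => hH ?_) fun a x hx => ?_
            · rw [← map_comap_eq_self_of_surjective hρ H, h, map_top_of_surjective _ hρ]
            · show ρ (φ a x) ∈ H
              rw [← hφ']; exact hHi a _ hx
          rw [← map_comap_eq_self_of_surjective hρ H, h1]
      have hlt : Nat.card (G ⧸ K) < n := by
        rw [← h, ← K.index_eq_card, ← K.card_mul_index]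
        exact lt_mul_of_one_lt_left (Nat.pos_of_ne_zero Subgroup.index_ne_zero_of_finite)
          (K.one_lt_card_iff_ne_bot.mpr hKne)
      have hlift : ∀ w ∈ M.map ρ, (∃ k, orderOf w = 2 ^ k) →
          ∃ x ∈ M, (∃ k, orderOf x = 2 ^ k) ∧ ρ x = w := by
        rintro _ ⟨x, hx, rfl⟩ ⟨k, hk⟩
        obtain ⟨u, w, huw, hc, hu, ⟨j, hw⟩, huz, hwz⟩ := Elem69.exists_prime_split x Nat.prime_two
        refine ⟨w, zpowers_le.mpr hx hwz, ⟨j, hw⟩, ?_⟩
        obtain ⟨i, hi⟩ := mem_zpowers_iff.mp huz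
        have hu1 : ρ u = 1 := eq_one_of_two_pow (k := k)
          (Nat.Coprime.coprime_dvd_left (orderOf_map_dvd ρ u) hu)
          (by rw [← hi, map_zpow, ← zpow_natCast, zpow_comm, zpow_natCast, ← hk,
            pow_orderOf_eq_one, one_zpow])
        rw [← huw, map_mul, hu1, one_mul]
      have hcl' : TwoClassTwo (M.map ρ) := by
        intro a' ha' b' hb' c' hc' hao' hbo' hco'
        obtain ⟨a, ha, hao, rfl⟩ := hlift a' ha' hao'
        obtain ⟨b, hb, hbo, rfl⟩ := hlift b' hb' hbo'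
        obtain ⟨c, hc, hco, rfl⟩ := hlift c' hc' hco'
        have := (hcl a ha b hb c hc hao hbo hco).map ρ
        simpa using this
      have hcop' : (Nat.card A).Coprime (Nat.card (G ⧸ K)) :=
        hcop.coprime_dvd_right (Subgroup.card_quotient_dvd_card K)
      have := ih _ hlt φ' hcop' (M.map ρ) hM' (Group.nilpotent_of_surjective _ hsurj) hcl' rfl
      have : Group.IsNilpotent K :=
        Group.nilpotent_of_mulEquiv (Subgroup.subgroupOfEquivOfLe hKM)
      exact Group.isSolvable_of_ker_le_range K.subtype ρ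
        (by rw [QuotientGroup.ker_mk', Subgroup.range_subtype])

end Cfsg.Agent.Lib.MaxInvNilpotent
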