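import Cfsg.Agent.Lib.MaxInvNilpotent.Local

/-!
Two largest bad subgroups, one not containing the moved part of the centre of the other, determine
each other; hence no bad subgroup is compatible with a group of automorphisms of odd order.
-/

set_option autoImplicit false

open Subgroup

namespace Cfsg.Agent.Lib.MaxInvNilpotent

variable {G : Type*} [Group G] [Finite G] {P : Sylow 2 G}

/-- The part of the centre of `Q` moved by `g`. -/
def moved (Q : Subgroup G) (g : G) : Subgroup G :=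
  closure ((fun v => g * v * g⁻¹ * v⁻¹) '' (zq Q : Set G))

omit [Finite G] in
theorem map_mem_moved {H : Type*} [Group H] (e : G ≃* H) {Q : Subgroup G} {g i : G}
    (hi : i ∈ moved Q g) : e i ∈ moved (Q.map e.toMonoidHom) (e g) := by
  have h : e i ∈ (moved Q g).map e.toMonoidHom := ⟨i, hi, rfl⟩
  rw [moved, MonoidHom.map_closure] at h
  refine closure_mono ?_ h
  rintro _ ⟨_, ⟨v, hv, rfl⟩, rfl⟩
  refine ⟨e v, ⟨⟨v, hv.1, rfl⟩, ?_⟩, by simp⟩
  refine mem_centralizer_iff.mpr ?_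
  rintro _ ⟨y, hy, rfl⟩
  show e y * e v = e v * e y
  rw [← map_mul, ← map_mul, mem_centralizer_iff.mp hv.2 y hy]

namespace Good

variable {Q Q' Q'' : Subgroup G} {g g' g'' : G} (h : Good P Q g)

omit [Finite G] in
theorem commute_zq {v y : G} (hv : v ∈ zq Q) (hy : y ∈ Q) : Commute v y :=
  (mem_centralizer_iff.mp hv.2 y hy).symm

include h

omit [Finite G] in
theorem two_pow_eq_one {v : G} (hv : v ∈ Q) : ∃ k : ℕ, v ^ (2 ^ k) = 1 := by
  obtain ⟨k, hk⟩ := P.2 ⟨v, h.le hv⟩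
  exact ⟨k, congrArg Subtype.val hk⟩

omit [Finite G] in
theorem mem_moved_iff {w : G} : w ∈ moved Q g ↔ ∃ v ∈ zq Q, g * v * g⁻¹ * v⁻¹ = w := by
  refine ⟨fun hw => ?_, fun ⟨v, hv, hw⟩ => hw ▸ subset_closure ⟨v, hv, rfl⟩⟩
  let f : zq Q →* G :=
    { toFun := fun v => g * v * g⁻¹ * (v : G)⁻¹
      map_one' := by simp
      map_mul' := fun v w => by
        have hc : Commute (v : G)⁻¹ (g * w * g⁻¹ * (w : G)⁻¹) :=
          (commute_zq v.2 (mul_mem (conj_mem_zq h.mem w.2) (inv_mem w.2)).1).inv_left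
        calc g * ((v * w : zq Q) : G) * g⁻¹ * ((v * w : zq Q) : G)⁻¹
            = g * v * g⁻¹ * (g * w * g⁻¹ * (w : G)⁻¹ * (v : G)⁻¹) := by
              push_cast; group
          _ = g * v * g⁻¹ * ((v : G)⁻¹ * (g * w * g⁻¹ * (w : G)⁻¹)) := by rw [hc.eq]
          _ = _ := by group }
  have hle : moved Q g ≤ f.range := by
    rw [moved, closure_le]
    rintro _ ⟨v, hv, rfl⟩
    exact ⟨⟨v, hv⟩, rfl⟩
  obtain ⟨v, hv⟩ := hle hw
  exact ⟨v, v.2, hv⟩

omit [Finite G] in
theorem moved_le : moved Q g ≤ zq Q := by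
  rw [moved, closure_le]
  rintro _ ⟨v, hv, rfl⟩
  exact mul_mem (conj_mem_zq h.mem hv) (inv_mem hv)

omit [Finite G] in
theorem moved_le_sylow : moved Q g ≤ (P : Subgroup G) :=
  fun _ hi => h.le (h.moved_le hi).1

omit [Finite G] in
theorem eq_one_of_fixed {w : G} (hw : w ∈ moved Q g) (hfix : g * w * g⁻¹ = w) : w = 1 := by
  obtain ⟨v, -, rfl⟩ := h.mem_moved_iff.mp hw
  obtain ⟨k, hk⟩ := h.two_pow_eq_one (h.moved_le hw).1
  exact eq_one_of_shift (y := v) h.odd (by group) hfix hk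

omit [Finite G] in
theorem conj_mem_moved {i : G} (hi : i ∈ moved Q g) : g * i * g⁻¹ ∈ moved Q g := by
  have h1 : g * i * g⁻¹ * i⁻¹ ∈ moved Q g := h.mem_moved_iff.mpr ⟨i, h.moved_le hi, rfl⟩
  simpa using mul_mem h1 hi

theorem comm_mem_moved {y : G} (hy : y ∈ Q) : g * y * g⁻¹ * y⁻¹ ∈ moved Q g := by
  let f : moved Q g → moved Q g := fun i =>
    ⟨g * i * g⁻¹ * (i : G)⁻¹, mul_mem (h.conj_mem_moved i.2) (inv_mem i.2)⟩
  have hf : Function.Injective f := by
    intro i j hij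
    have h1 : g * i * g⁻¹ * (i : G)⁻¹ = g * j * g⁻¹ * (j : G)⁻¹ := congrArg Subtype.val hij
    have hfix : g * ((j : G)⁻¹ * i) * g⁻¹ = (j : G)⁻¹ * i := by
      have hc : Commute (g * j * g⁻¹ * (j : G)⁻¹) (j : G)⁻¹ :=
        (commute_zq (h.moved_le (mul_mem (h.conj_mem_moved j.2) (inv_mem j.2)))
          (h.moved_le j.2).1).inv_right
      calc g * ((j : G)⁻¹ * i) * g⁻¹
          = (g * j * g⁻¹)⁻¹ * (g * i * g⁻¹ * (i : G)⁻¹) * i := by group
        _ = (g * j * g⁻¹)⁻¹ * ((g * j * g⁻¹ * (j : G)⁻¹) * (j : G)⁻¹) * (j * i) := by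
          rw [h1]; group
        _ = (g * j * g⁻¹)⁻¹ * ((j : G)⁻¹ * (g * j * g⁻¹ * (j : G)⁻¹)) * (j * i) := by rw [hc.eq]
        _ = (g * j * g⁻¹)⁻¹ * (j : G)⁻¹ * (g * j * g⁻¹) * i := by group
        _ = (j : G)⁻¹ * i := by
          rw [show (g * j * g⁻¹)⁻¹ * (j : G)⁻¹ * (g * j * g⁻¹) = (j : G)⁻¹ from by
            have hc' : Commute (j : G)⁻¹ (g * j * g⁻¹) :=
              (commute_zq (h.moved_le j.2) (h.moved_le (h.conj_mem_moved j.2)).1).inv_left
            rw [mul_assoc, hc'.eq, inv_mul_cancel_left]]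
    exact Subtype.ext (inv_mul_eq_one.mp (h.eq_one_of_fixed (mul_mem (inv_mem j.2) i.2) hfix)).symm
  have hsurj := Finite.injective_iff_surjective.mp hf
  set c := g * y * g⁻¹ * y⁻¹ with hc
  have hcV : c ∈ zq Q := h.comm y hy
  obtain ⟨i, hi⟩ := hsurj ⟨_, h.mem_moved_iff.mpr ⟨c, hcV, rfl⟩⟩
  have hi' : g * i * g⁻¹ * (i : G)⁻¹ = g * c * g⁻¹ * c⁻¹ := congrArg Subtype.val hi
  obtain ⟨j, hj⟩ := hsurj i
  have hj' : g * j * g⁻¹ * (j : G)⁻¹ = i := congrArg Subtype.val hj
  set d := c * (i : G)⁻¹ with hd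
  have hdV : d ∈ zq Q := mul_mem hcV (inv_mem (h.moved_le i.2))
  have hdfix : g * d * g⁻¹ = d := by
    have hc1 : Commute (g * c * g⁻¹ * c⁻¹) (c * (i : G)⁻¹) :=
      commute_zq (mul_mem (conj_mem_zq h.mem hcV) (inv_mem hcV)) hdV.1
    calc g * d * g⁻¹ = (g * c * g⁻¹ * c⁻¹) * (c * (i : G)⁻¹) *
          (g * i * g⁻¹ * (i : G)⁻¹)⁻¹ := by rw [hd]; group
      _ = (c * (i : G)⁻¹) * (g * c * g⁻¹ * c⁻¹) * (g * c * g⁻¹ * c⁻¹)⁻¹ := by rw [hi', hc1.eq]
      _ = d := by rw [mul_inv_cancel_right]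
  have hshift : g * ((j : G)⁻¹ * y) * g⁻¹ = d * ((j : G)⁻¹ * y) := by
    have hc1 : Commute (j : G)⁻¹ ((i : G)⁻¹ * c) :=
      (commute_zq (h.moved_le j.2) (mul_mem (inv_mem (h.moved_le i.2)) hcV).1).inv_left
    have hc2 : Commute (i : G)⁻¹ c := (commute_zq (h.moved_le i.2) hcV.1).inv_left
    calc g * ((j : G)⁻¹ * y) * g⁻¹ = (g * j * g⁻¹)⁻¹ * (g * y * g⁻¹) := by group
      _ = ((i : G) * j)⁻¹ * (c * y) := by rw [← hj', hc]; group
      _ = (j : G)⁻¹ * ((i : G)⁻¹ * c) * y := by group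
      _ = (i : G)⁻¹ * c * (j : G)⁻¹ * y := by rw [hc1.eq]
      _ = d * ((j : G)⁻¹ * y) := by rw [hd, ← hc2.eq]; group
  obtain ⟨k, hk⟩ := h.two_pow_eq_one hdV.1
  have hd1 := eq_one_of_shift h.odd hshift hdfix hk
  rw [hd, mul_inv_eq_one] at hd1
  exact hd1 ▸ i.2

omit [Finite G] in
theorem sylow_conj_mem_moved {t i : G} (ht : t ∈ (P : Subgroup G)) (hi : i ∈ moved Q g) :
    t * i * t⁻¹ ∈ moved Q g := by
  by_cases htQ : t ∈ Q
  · rwa [← (commute_zq (h.moved_le hi) htQ).eq, mul_inv_cancel_right]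
  · obtain ⟨v, hv, rfl⟩ := h.mem_moved_iff.mp hi
    set w := t * v * t⁻¹ with hw
    have hwV : w ∈ zq Q := conj_mem_zq (h.norm ht) hv
    refine h.mem_moved_iff.mpr ⟨g⁻¹ * w⁻¹ * g, conj_mem_zq' h.mem (inv_mem hwV), ?_⟩
    have h1 := h.inv t ht htQ w hwV
    have hc : Commute (w⁻¹) (g⁻¹ * w * g) :=
      (commute_zq hwV (conj_mem_zq' h.mem hwV).1).inv_left
    calc g * (g⁻¹ * w⁻¹ * g) * g⁻¹ * (g⁻¹ * w⁻¹ * g)⁻¹ = w⁻¹ * (g⁻¹ * w * g) := by group
      _ = g⁻¹ * w * g * w⁻¹ := hc.eq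
      _ = t * g * t⁻¹ * w * (t * g * t⁻¹)⁻¹ * w⁻¹ := by rw [h1]
      _ = t * (g * v * g⁻¹ * v⁻¹) * t⁻¹ := by rw [hw]; group

omit [Finite G] in
theorem eq_one_of_fixed_both {t i : G} (ht : t ∈ (P : Subgroup G)) (htQ : t ∉ Q)
    (hi : i ∈ moved Q g) (h1 : Commute t i) (h2 : Commute t (g * i * g⁻¹)) : i = 1 := by
  have h3 := h.inv t ht htQ i (h.moved_le hi)
  have h5 : t⁻¹ * i * t = i := by rw [mul_assoc, ← h1.eq, inv_mul_cancel_left]
  have h4 : t * g * t⁻¹ * i * (t * g * t⁻¹)⁻¹ = g * i * g⁻¹ := by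
    rw [show t * g * t⁻¹ * i * (t * g * t⁻¹)⁻¹ = t * (g * (t⁻¹ * i * t) * g⁻¹) * t⁻¹ by group,
      h5, h2.eq, mul_inv_cancel_right]
  rw [h4] at h3
  have hg2 : g ^ 2 ∈ centralizer ({i} : Set G) := by
    rw [mem_centralizer_singleton_iff]
    have := congrArg (fun z => g * z * g) h3
    simpa [pow_two, mul_assoc] using this
  have hg : g ∈ centralizer ({i} : Set G) :=
    zpowers_le.mpr hg2 (mem_zpowers_pow_iff.mpr h.odd.symm)
  refine h.eq_one_of_fixed hi ?_
  rw [mem_centralizer_singleton_iff.mp hg, mul_inv_cancel_right]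

theorem moved_ne_bot : moved Q g ≠ ⊥ := by
  intro hbot
  refine h.ncen (mem_centralizer_iff.mpr fun y hy => ?_)
  have h1 := h.comm_mem_moved hy
  rw [hbot, mem_bot, mul_inv_eq_one, mul_inv_eq_iff_eq_mul] at h1
  exact h1.symm

omit [Finite G] in
theorem commute_sylow {v x : G} (hv : ∀ y ∈ Q, Commute v y) (hx : x ∈ (P : Subgroup G))
    (hxQ : x ∉ Q) (hvx : Commute v x) {p : G} (hp : p ∈ (P : Subgroup G)) : Commute v p := by
  by_cases hpQ : p ∈ Q
  · exact hv p hpQ
  · simpa using (hv _ (h.two p hp x hx hpQ hxQ)).mul_right hvx.inv_right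

section Pair

variable (h' : Good P Q' g')

include h'

/-- The relation of partners is symmetric. -/
theorem not_le_symm (hI : ¬ moved Q g ≤ Q') : ¬ moved Q' g' ≤ Q := by
  intro hle
  obtain ⟨a, ha, haQ'⟩ := SetLike.not_le_iff_exists.mp hI
  refine h'.moved_ne_bot ((eq_bot_iff_forall _).mpr fun i hi => ?_)
  have haP := h.moved_le_sylow ha
  have hcen : ∀ {p : G}, p ∈ (P : Subgroup G) → ∀ {j : G}, j ∈ moved Q' g' → Commute j p := by
    intro p hp j hj
    exact h'.commute_sylow (fun y hy => commute_zq (h'.moved_le hj) hy) haP haQ'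
      (commute_zq (h.moved_le ha) (hle hj)).symm hp
  exact h'.eq_one_of_fixed_both haP haQ' hi (hcen haP hi).symm
    (hcen haP (h'.conj_mem_moved hi)).symm

omit [Finite G] in
theorem not_commute {a b : G} (ha : a ∈ moved Q g) (haQ' : a ∉ Q') (hb : b ∈ moved Q' g')
    (hbQ : b ∉ Q) : ¬ Commute b a := by
  intro hc
  refine hbQ (h.cen b (h'.moved_le_sylow hb) (mem_centralizer_iff.mpr fun y hy => ?_))
  exact (h'.commute_sylow (fun y hy => commute_zq (h'.moved_le hb) hy) (h.moved_le_sylow ha)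
    haQ' hc (h.le hy)).symm.eq

omit [Finite G] in
theorem mem_of_commute {a b x : G} (ha : a ∈ moved Q g) (haQ' : a ∉ Q') (hb : b ∈ moved Q' g')
    (hbQ : b ∉ Q) (hx : x ∈ (P : Subgroup G)) (hax : Commute a x) : x ∈ Q := by
  by_contra hxQ
  exact h.not_commute h' ha haQ' hb hbQ (h.commute_sylow (fun y hy => commute_zq (h.moved_le ha) hy)
    hx hxQ hax (h'.moved_le_sylow hb)).symm

theorem sq_eq_one (hI : ¬ moved Q g ≤ Q') {i : G} (hi : i ∈ moved Q g) : i ^ 2 = 1 := by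
  obtain ⟨b, hb, hbQ⟩ := SetLike.not_le_iff_exists.mp (h.not_le_symm h' hI)
  have hsq : ∀ j ∈ moved Q g, Commute b (j ^ 2) := by
    intro j hj
    by_cases hjQ' : j ∈ Q'
    · exact (commute_zq (h'.moved_le hb) hjQ').pow_right 2
    · rw [pow_two]
      exact commute_zq (h'.moved_le hb)
        (h'.two j (h.moved_le_sylow hj) j (h.moved_le_sylow hj) hjQ' hjQ')
  refine h.eq_one_of_fixed_both (h'.moved_le_sylow hb) hbQ (pow_mem hi 2) (hsq i hi) ?_
  rw [← conj_pow]
  exact hsq _ (h.conj_mem_moved hi)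

end Pair

/-- Partners are unique. -/
theorem le_of_partners (h' : Good P Q' g') (h'' : Good P Q'' g'') (hI : ¬ moved Q g ≤ Q')
    (hI' : ¬ moved Q g ≤ Q'') : Q' ≤ Q'' := by
  obtain ⟨a, ha, haQ'⟩ := SetLike.not_le_iff_exists.mp hI
  obtain ⟨a'', ha'', ha''Q⟩ := SetLike.not_le_iff_exists.mp hI'
  obtain ⟨b, hb, hbQ⟩ := SetLike.not_le_iff_exists.mp (h.not_le_symm h' hI)
  obtain ⟨b'', hb'', hb''Q⟩ := SetLike.not_le_iff_exists.mp (h.not_le_symm h'' hI')
  have hbP := h'.moved_le_sylow hb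
  have haP := h.moved_le_sylow ha
  have ha2 : a * a = 1 := by rw [← pow_two]; exact h.sq_eq_one h' hI ha
  have hb2 : b * b = 1 := by rw [← pow_two]; exact h'.sq_eq_one h (h.not_le_symm h' hI) hb
  have hai : a⁻¹ = a := inv_eq_of_mul_eq_one_right ha2
  have hbi : b⁻¹ = b := inv_eq_of_mul_eq_one_right hb2
  have hb''2 : b'' * b'' = 1 := by
    rw [← pow_two]; exact h''.sq_eq_one h (h.not_le_symm h'' hI') hb''
  have hz : b * a * b * a ∈ moved Q g := by
    have := mul_mem (h.sylow_conj_mem_moved hbP ha) ha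
    rwa [hbi] at this
  have hz1 : b * a * b * a ≠ 1 := by
    intro h1
    refine h.not_commute h' ha haQ' hb hbQ ?_
    rw [mul_eq_one_iff_eq_inv, hai] at h1
    show b * a = a * b
    calc b * a = b * a * b * b := by rw [mul_assoc _ b b, hb2, mul_one]
      _ = a * b := by rw [h1]
  set q := b * b'' with hq
  have hqQ : q ∈ Q := h.two b hbP b'' (h''.moved_le_sylow hb'') hbQ hb''Q
  have hb''q : b'' = b * q := by rw [hq, ← mul_assoc, hb2, one_mul]
  have haq : Commute a q := commute_zq (h.moved_le ha) hqQ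
  by_cases hqQ' : q ∈ Q'
  swap
  · exfalso
    set d := a * q with hd
    have hdQ : d ∈ Q := mul_mem (h.moved_le ha).1 hqQ
    have hdQ' : d ∈ Q' := h'.two a haP q (h.le hqQ) haQ' hqQ'
    have had : Commute a d := commute_zq (h.moved_le ha) hdQ
    have hbd : Commute b d := commute_zq (h'.moved_le hb) hdQ'
    have hqd : q = a * d := by rw [hd, ← mul_assoc, ha2, one_mul]
    have hdd : d * d = (b * a * b * a)⁻¹ := by
      refine eq_inv_of_mul_eq_one_right ?_
      calc b * a * b * a * (d * d) = b * a * (b * (a * d)) * d := by group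
        _ = b * a * (d * (b * a)) * d := by
          rw [had.eq, ← mul_assoc b d a, hbd.eq, mul_assoc d b a]
        _ = b * (a * d) * (b * (a * d)) := by group
        _ = 1 := by rw [← hqd, ← hb''q, hb''2]
    have hfix : g * (d * d) * g⁻¹ = d * d := by
      set c := g * d * g⁻¹ * d⁻¹ with hc
      have hcI : c ∈ moved Q g := h.comm_mem_moved hdQ
      have hc2 : c * c = 1 := by rw [← pow_two]; exact h.sq_eq_one h' hI hcI
      calc g * (d * d) * g⁻¹ = c * (d * c) * d := by rw [hc]; group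
        _ = c * (c * d) * d := by rw [(commute_zq (h.moved_le hcI) hdQ).eq]
        _ = d * d := by rw [← mul_assoc c c d, hc2, one_mul]
    have hmem : d * d ∈ moved Q g := hdd ▸ inv_mem hz
    exact hz1 (by rw [← inv_eq_one, ← hdd]; exact h.eq_one_of_fixed hmem hfix)
  · have hbq : Commute b q := commute_zq (h'.moved_le hb) hqQ'
    have haQ'' : a ∉ Q'' := by
      intro haQ''
      have h1 : Commute a b'' := (commute_zq (h''.moved_le hb'') haQ'').symm
      have h2 : Commute a b := by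
        rw [show b = b'' * q⁻¹ by rw [hb''q, mul_inv_cancel_right]]
        exact h1.mul_right haq.inv_right
      exact h.not_commute h' ha haQ' hb hbQ h2.symm
    have hD : ∀ y ∈ Q, y ∈ Q' → y ∈ Q'' := by
      intro y hy hyQ'
      by_contra hyQ''
      have h1 : Commute b'' (a * y) :=
        commute_zq (h''.moved_le hb'') (h''.two a haP y (h.le hy) haQ'' hyQ'')
      have h2 : y * b'' * y⁻¹ = a * b'' * a := by
        have := congrArg (fun z => a * z * y⁻¹) h1.eq.symm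
        simpa [mul_assoc, ← mul_assoc a a, ha2] using this
      have hyb : Commute y b := (commute_zq (h'.moved_le hb) hyQ').symm
      have h3 : y * q * y⁻¹ * q⁻¹ = b * a * b * a := by
        have h4 : y * q * y⁻¹ = b * a * b * (a * q) := by
          calc y * q * y⁻¹ = b * (b * y) * q * y⁻¹ := by rw [← mul_assoc b b y, hb2, one_mul]
            _ = b * (y * b'' * y⁻¹) := by rw [hb''q, ← hyb.eq]; group
            _ = b * (a * b * (q * a)) := by rw [h2, hb''q]; group
            _ = b * a * b * (a * q) := by rw [← haq.eq]; group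
        rw [h4]; group
      have hfix : g * (y * q * y⁻¹ * q⁻¹) * g⁻¹ = y * q * y⁻¹ * q⁻¹ := by
        set c := g * y * g⁻¹ * y⁻¹ with hc
        set e := g * q * g⁻¹ * q⁻¹ with he
        have hcV : c ∈ zq Q := h.comm y hy
        have heV : e ∈ zq Q := h.comm q hqQ
        have hey : Commute e y := commute_zq heV hy
        have hcq : Commute c (y * q * y⁻¹ * q⁻¹ * e⁻¹) := commute_zq hcV
          (mul_mem (mul_mem (mul_mem (mul_mem hy hqQ) (inv_mem hy)) (inv_mem hqQ)) (inv_mem heV.1))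
        have heq' : Commute e (c * y * q * y⁻¹) :=
          commute_zq heV (mul_mem (mul_mem (mul_mem hcV.1 hy) hqQ) (inv_mem hy))
        calc g * (y * q * y⁻¹ * q⁻¹) * g⁻¹ = c * y * (e * q) * (c * y)⁻¹ * (e * q)⁻¹ := by
              rw [hc, he]; group
          _ = c * y * e * q * y⁻¹ * c⁻¹ * q⁻¹ * e⁻¹ := by group
          _ = c * (e * y) * q * y⁻¹ * c⁻¹ * q⁻¹ * e⁻¹ := by rw [hey.eq]; group
          _ = e * (c * y * q * y⁻¹) * (c⁻¹ * q⁻¹) * e⁻¹ := by
              rw [← mul_assoc c e y, ← (commute_zq heV hcV.1).eq]; group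
          _ = c * y * q * y⁻¹ * (e * (c⁻¹ * q⁻¹)) * e⁻¹ := by rw [heq'.eq]; group
          _ = c * y * q * y⁻¹ * (c⁻¹ * q⁻¹ * e) * e⁻¹ := by
              rw [(commute_zq heV (mul_mem (inv_mem hcV.1) (inv_mem hqQ))).eq]
          _ = c * y * q * y⁻¹ * (q⁻¹ * c⁻¹) := by
              rw [(commute_zq hcV hqQ).symm.inv_inv.eq]; group
          _ = c * (y * q * y⁻¹ * q⁻¹) * c⁻¹ := by group
          _ = y * q * y⁻¹ * q⁻¹ := by
              rw [(commute_zq hcV (mul_mem (mul_mem (mul_mem hy hqQ) (inv_mem hy)) (inv_mem hqQ))).eq,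
                mul_inv_cancel_right]
      rw [h3] at hfix
      exact hz1 (h.eq_one_of_fixed hz hfix)
    have hbQ'' : b ∈ Q'' := by
      refine h''.mem_of_commute h hb'' hb''Q ha'' ha''Q hbP ?_
      rw [hb''q]
      exact (Commute.refl b).mul_left hbq.symm
    intro x hx
    by_cases hxQ : x ∈ Q
    · exact hD x hxQ hx
    · have h1 := hD _ (h.two x (h'.le hx) b hbP hxQ hbQ) (mul_mem hx (h'.moved_le hb).1)
      simpa [mul_assoc, hb2] using mul_mem h1 hbQ''

end Good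

/-- No bad subgroup is compatible with a group of automorphisms of odd order. -/
theorem not_bad {A : Type*} [Group A] [Finite A] (φ : A →* MulAut G) (C : Ctx P)
    (hφP : ∀ a : A, (P : Subgroup G).map (φ a).toMonoidHom = P)
    (hA : ∀ a : A, (orderOf a).Coprime 2)
    (hU : ∀ U : Subgroup G, U ≤ (P : Subgroup G) → U ≠ ⊥ → (∀ a : A, ∀ x ∈ U, φ a x ∈ U) →
      (P : Subgroup G) ≤ normalizer (U : Set G) → ∀ g ∈ normalizer (U : Set G),
      (orderOf g).Coprime 2 → g ∈ centralizer ((P : Subgroup G) : Set G)) (Q : Subgroup G) :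
    ¬ Bad P Q := by
  intro hbad
  obtain ⟨Q, hQ, hmax⟩ := Set.exists_max_image {Q : Subgroup G | Bad P Q}
    (fun Q => Nat.card Q) (Set.toFinite _) ⟨Q, hbad⟩
  clear hbad
  obtain ⟨hQP, hPQ, g, hg, hgo, hgc⟩ := hQ
  have hQm : MaxBad P Q := ⟨⟨hQP, hPQ, g, hg, hgo, hgc⟩, hmax⟩
  have hG := good_of_maxBad C hQm hg hgo hgc
  have hmem : ∀ a : A, φ a g ∈ normalizer ((Q.map (φ a).toMonoidHom : Subgroup G) : Set G) :=
    fun a => (map_equiv_normalizer_eq Q (φ a)).le ⟨g, hg, rfl⟩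
  have hord : ∀ a : A, (orderOf (φ a g)).Coprime 2 := fun a => by rwa [MulEquiv.orderOf_eq]
  have hnc : ∀ a : A, φ a g ∉ centralizer ((Q.map (φ a).toMonoidHom : Subgroup G) : Set G) := by
    intro a hc
    refine hgc (mem_centralizer_iff.mpr fun y hy => (φ a).injective ?_)
    have h1 : φ a y * φ a g = φ a g * φ a y := mem_centralizer_iff.mp hc (φ a y) ⟨y, hy, rfl⟩
    simpa using h1
  have hGa : ∀ a : A, Good P (Q.map (φ a).toMonoidHom) (φ a g) := by
    intro a
    refine good_of_maxBad C ⟨⟨hφP a ▸ map_mono hQP, ?_, _, hmem a, hord a, hnc a⟩, fun R hR => ?_⟩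
      (hmem a) (hord a) (hnc a)
    · calc (P : Subgroup G) = (P : Subgroup G).map (φ a).toMonoidHom := (hφP a).symm
        _ ≤ (normalizer (Q : Set G)).map (φ a).toMonoidHom := map_mono hPQ
        _ = _ := map_equiv_normalizer_eq Q (φ a)
    · rw [card_map_of_injective (φ a).injective]
      exact hmax R hR
  have hcomp : ∀ (a b : A) (R : Subgroup G), (R.map (φ b).toMonoidHom).map (φ a).toMonoidHom =
      R.map (φ (a * b)).toMonoidHom := by
    intro a b R
    rw [map_map, map_mul]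
    rfl
  -- the moved part lies in all the translates
  have hI : ∀ a : A, moved Q g ≤ Q.map (φ a).toMonoidHom := by
    intro a
    by_contra hIa
    set Q1 := Q.map (φ a).toMonoidHom with hQ1
    have hne1 : ¬ moved Q1 (φ a g) ≤ Q := hG.not_le_symm (hGa a) hIa
    have hne2 : ¬ moved Q1 (φ a g) ≤ Q.map (φ (a * a)).toMonoidHom := by
      intro hle
      refine hIa fun i hi => ?_
      have h1 := hle (map_mem_moved (φ a) hi)
      rw [← hcomp] at h1
      obtain ⟨j, hj, hji⟩ := h1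
      exact (φ a).injective hji ▸ hj
    have heq : Q.map (φ (a * a)).toMonoidHom = Q := le_antisymm
      ((hGa a).le_of_partners (hGa (a * a)) hG hne2 hne1)
      ((hGa a).le_of_partners hG (hGa (a * a)) hne1 hne2)
    have hpow : ∀ n : ℕ, Q.map (φ ((a * a) ^ n)).toMonoidHom = Q := by
      intro n
      induction n with
      | zero => rw [pow_zero, map_one]; exact Q.map_id
      | succ n ih => rw [pow_succ', ← hcomp, ih, heq]
    obtain ⟨m, hm⟩ := exists_pow_eq_self_of_coprime (n := 2) (x := a) (hA a).symm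
    have hfix : Q.map (φ a).toMonoidHom = Q := by
      rw [← hm, pow_two]; exact hpow m
    exact hIa fun i hi => hfix.ge (hG.moved_le hi).1
  set U := ⨅ a : A, Q.map (φ a).toMonoidHom with hUdef
  have hone : Q.map (φ (1 : A)).toMonoidHom = Q := by rw [map_one]; exact Q.map_id
  have hUQ : U ≤ Q := (iInf_le _ (1 : A)).trans hone.le
  have hUφ : ∀ a : A, ∀ x ∈ U, φ a x ∈ U := by
    intro a x hx
    rw [hUdef, mem_iInf] at hx ⊢
    intro b
    have h1 : φ a x ∈ (Q.map (φ (a⁻¹ * b)).toMonoidHom).map (φ a).toMonoidHom := ⟨x, hx _, rfl⟩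
    rwa [hcomp, mul_inv_cancel_left] at h1
  have hPU : (P : Subgroup G) ≤ normalizer (U : Set G) := by
    refine Coprime.le_normalizer_of_conj_mem fun p hp x hx => ?_
    rw [hUdef, mem_iInf] at hx ⊢
    exact fun a => conj_mem_normalizer ((hGa a).norm hp) (hx a)
  have hgU : g ∈ normalizer (U : Set G) := by
    refine mem_normalizer_of_conj_le fun y hy => ?_
    have hc : g * y * g⁻¹ * y⁻¹ ∈ U := by
      rw [hUdef, mem_iInf]
      exact fun a => hI a (hG.comm_mem_moved (hUQ hy))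
    simpa using mul_mem hc hy
  have hUne : U ≠ ⊥ := by
    intro hbot
    have : Fact (Nat.Prime 2) := ⟨Nat.prime_two⟩
    have hQne : Nontrivial (P : Subgroup G) := by
      rw [nontrivial_iff_ne_bot]
      intro hP
      refine hgc (mem_centralizer_iff.mpr fun y hy => ?_)
      rw [show y = 1 from mem_bot.mp (hP ▸ hQP hy), one_mul, mul_one]
    obtain ⟨z, hz, hz1⟩ : ∃ z : (P : Subgroup G), z ∈ center (P : Subgroup G) ∧ z ≠ 1 := by
      have := P.2.center_nontrivial
      obtain ⟨z, hz⟩ := exists_ne (1 : center (P : Subgroup G))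
      exact ⟨z, z.2, fun h => hz (Subtype.ext h)⟩
    have hzU : (z : G) ∈ U := by
      rw [hUdef, mem_iInf]
      intro a
      refine (hGa a).cen _ z.2 (mem_centralizer_iff.mpr fun y hy => ?_)
      exact congrArg Subtype.val (mem_center_iff.mp hz ⟨y, (hGa a).le hy⟩)
    rw [hbot, mem_bot, OneMemClass.coe_eq_one] at hzU
    exact hz1 hzU
  exact hgc (centralizer_le (SetLike.coe_subset_coe.mpr hQP)
    (hU U (hUQ.trans hQP) hUne hUφ hPU g hgU hgo))

end Cfsg.Agent.Lib.MaxInvNilpotent
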